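import Mathlib
import Cfsg.Prelude.Def_PLocal
import Cfsg.Agent.Lib.Invol.ConstrainedCoreClosure
import Cfsg.Agent.Lib.Fus.TransitivityOdd
import Cfsg.Agent.Lib.Invol.StronglyEmbedded
import Cfsg.Agent.S0205

/-!
# Basic facts for groups with solvable centralizers of involutions

Constrained 2-locals, transport of the cores of centralizers, Sylow subgroups of centralizers, and
passing to a group of characteristic 2 type.
-/

set_option autoImplicit false
set_option linter.unusedSectionVars false

namespace Cfsg.Agent.Grp.ZN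

open Cfsg Subgroup ConstrainedCores

universe u

variable {G : Type u} [Group G]

/-- The core of the centralizer of `x`, as a subgroup of `G`. -/
abbrev core (x : G) : Subgroup G := Cfsg.centralizerPPrimeCore 2 x

/-- Every 2-local subgroup is 2-constrained. -/
def LocalConstrained (G : Type u) [Group G] : Prop :=
  ∀ T : Subgroup G, IsPGroup 2 T → T ≠ ⊥ → Cfsg.IsPConstrained 2 ↥(Subgroup.normalizer (T : Set G))

/-- The centralizer of every involution is solvable. -/
def SolvCent (G : Type u) [Group G] : Prop :=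
  ∀ t : G, orderOf t = 2 → Group.IsSolvable ↥(Subgroup.centralizer ({t} : Set G))

/-- The elements of order dividing 2 of the centre of `S`. -/
abbrev omegaCenter (S : Subgroup G) : Subgroup G :=
  Cfsg.omegaOne 2 (S ⊓ Subgroup.centralizer (S : Set G))

theorem ft : ∀ (K : Type u) [Group K] [Finite K], Odd (Nat.card K) → Group.IsSolvable K :=
  fun _ _ _ h => Cfsg.Agent.S0205.result h

theorem mem_omegaOne_iff {A : Subgroup G} (hA : ∀ a ∈ A, ∀ b ∈ A, Commute a b) {x : G} :
    x ∈ Cfsg.omegaOne 2 A ↔ x ∈ A ∧ x ^ 2 = 1 := by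
  refine ⟨fun hx => ?_, fun h => Subgroup.subset_closure h⟩
  induction hx using Subgroup.closure_induction with
  | mem a ha => exact ha
  | one => exact ⟨one_mem _, one_pow _⟩
  | mul a b _ _ ha hb => exact ⟨mul_mem ha.1 hb.1, by rw [(hA a ha.1 b hb.1).mul_pow, ha.2, hb.2, one_mul]⟩
  | inv a _ ha => exact ⟨inv_mem ha.1, by rw [inv_pow, ha.2, inv_one]⟩

theorem mem_omegaCenter {S : Subgroup G} {x : G} :
    x ∈ omegaCenter S ↔ x ∈ S ∧ (∀ s ∈ S, Commute x s) ∧ x ^ 2 = 1 := by
  rw [omegaCenter, mem_omegaOne_iff (A := S ⊓ centralizer (S : Set G))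
    (fun a ha b hb => (mem_centralizer_iff.1 ha.2 b hb.1).symm), mem_inf, and_assoc]
  refine and_congr_right fun _ => and_congr_left fun _ => mem_centralizer_iff.trans ?_
  exact forall₂_congr fun s _ => ⟨fun h => h.symm, fun h => h.symm⟩

theorem omegaCenter_elemAb (S : Subgroup G) : Cfsg.IsElementaryAbelian 2 (omegaCenter S) :=
  ⟨⟨⟨fun a b => Subtype.ext ((mem_omegaCenter.1 a.2).2.1 b (mem_omegaCenter.1 b.2).1).eq⟩⟩,
    fun _ ha => (mem_omegaCenter.1 ha).2.2⟩

theorem orderOf_of_sq {x : G} (h2 : x ^ 2 = 1) (h1 : x ≠ 1) : orderOf x = 2 :=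
  orderOf_eq_prime h2 h1

theorem isPGroup_two_zpowers {x : G} (h2 : x ^ 2 = 1) : IsPGroup 2 (zpowers x) := by
  intro y
  obtain ⟨i, hi⟩ := mem_zpowers_iff.1 y.2
  refine ⟨1, Subtype.ext ?_⟩
  rw [SubmonoidClass.coe_pow, ← hi, OneMemClass.coe_one, pow_one, ← zpow_natCast, ← zpow_mul, mul_comm,
    zpow_mul, zpow_natCast, h2, one_zpow]

/-- An elementary abelian subgroup of order at least 4 has an involution outside a given cyclic subgroup of
order at most 2. -/
theorem exists_notMem [Finite G] {B : Subgroup G} (hB : 4 ≤ Nat.card B) {z : G} (hz : z ^ 2 = 1) :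
    ∃ a ∈ B, a ∉ zpowers z := by
  by_contra h
  push Not at h
  have h1 := Subgroup.card_le_of_le (fun a ha => h a ha : B ≤ zpowers z)
  rw [Nat.card_zpowers] at h1
  have h2 := Nat.le_of_dvd two_pos (orderOf_dvd_of_pow_eq_one hz)
  omega

/-- A pair of commuting elements of order dividing 2 spans an elementary abelian subgroup. -/
theorem elemAb_pair [Finite G] {a b : G} (ha : a ^ 2 = 1) (hb : b ^ 2 = 1) (hab : Commute a b) :
    Cfsg.IsElementaryAbelian 2 (zpowers a ⊔ zpowers b : Subgroup G) :=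
  elemAb_sup (elemAb_zpowers ha) (elemAb_zpowers hb) fun x hx y hy => by
    obtain ⟨i, rfl⟩ := mem_zpowers_iff.1 hx
    obtain ⟨j, rfl⟩ := mem_zpowers_iff.1 hy
    exact hab.zpow_zpow i j

theorem pair_le {a b : G} {H : Subgroup G} (ha : a ∈ H) (hb : b ∈ H) : zpowers a ⊔ zpowers b ≤ H :=
  sup_le (zpowers_le.2 ha) (zpowers_le.2 hb)

theorem pair_commute {a b c : G} (ha : Commute a c) (hb : Commute b c) :
    ∀ x ∈ zpowers a ⊔ zpowers b, Commute x c := fun _ hx =>
  mem_centralizer_singleton_iff.1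
    ((pair_le (mem_centralizer_singleton_iff.2 ha.eq) (mem_centralizer_singleton_iff.2 hb.eq) :
      zpowers a ⊔ zpowers b ≤ centralizer ({c} : Set G)) hx)

variable [Finite G]

/-- With solvable centralizers of involutions every 2-local subgroup is 2-constrained. -/
theorem localConstrained (hC : SolvCent G) : LocalConstrained G := by
  haveI : Fact (Nat.Prime 2) := ⟨Nat.prime_two⟩
  intro T hT hT1
  haveI : Nontrivial T := (Subgroup.nontrivial_iff_ne_bot T).2 hT1
  obtain ⟨w, hw⟩ := exists_prime_orderOf_dvd_card' (G := T) 2 (by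
    obtain ⟨n, hn0, hn⟩ := hT.nontrivial_iff_card.1 inferInstance
    rw [hn]; exact dvd_pow_self 2 hn0.ne')
  set N := normalizer (T : Set G) with hN
  have hle : T ≤ N := le_normalizer
  set C := centralizer ((T.subgroupOf N : Subgroup N) : Set N) with hC'
  haveI : C.Normal := by
    haveI : (T.subgroupOf N).Normal := normal_subgroupOf_iff_le_normalizer hle |>.2 le_rfl
    rw [hC']; infer_instance
  refine Recog.LocalConstrained.isPConstrained_of_normal (T.subgroupOf N)
    (hT.of_equiv (subgroupOfEquivOfLe hle).symm)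
    (normal_subgroupOf_iff_le_normalizer hle |>.2 le_rfl) C le_rfl le_rfl
    (Fus.TransOdd.isPConstrained_of_solvable ?_)
  haveI := hC (w : G) (by rw [orderOf_coe, hw])
  let f : C →* ↥(centralizer ({(w : G)} : Set G)) :=
    (N.subtype.comp C.subtype).codRestrict _ fun c => mem_centralizer_singleton_iff.2
      (congrArg Subtype.val
        (mem_centralizer_iff.1 c.2 (⟨w, hle w.2⟩ : N) (mem_subgroupOf.2 w.2))).symm
  exact Group.isSolvable_of_isSolvable_injective (f := f) fun a b h =>
    Subtype.ext (Subtype.ext (congrArg (fun x : ↥(centralizer ({(w : G)} : Set G)) => (x : G)) h))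

theorem core_coprime (x : G) : (Nat.card (core x)).Coprime 2 :=
  Grp.centralizerPPrimeCore_coprime (p := 2) x

theorem core_le (x : G) : core x ≤ centralizer ({x} : Set G) := fun _ hy =>
  mem_centralizer_singleton_iff.2 (Grp.centralizerPPrimeCore_commute hy)

theorem map_core_le (g x : G) : (core x).map (MulAut.conj g).toMonoidHom ≤ core (g * x * g⁻¹) := by
  refine Grp.le_centralizerPPrimeCore ?_ ?_ ?_
  · rintro _ ⟨y, hy, rfl⟩
    have := (show Commute y x from Grp.centralizerPPrimeCore_commute hy).map (MulAut.conj g).toMonoidHom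
    simpa using this.eq
  · rintro c hc _ ⟨y, hy, rfl⟩
    have hc' : Commute (g⁻¹ * c * g) x := by
      have := (show Commute c (g * x * g⁻¹) from hc).map (MulAut.conj g⁻¹).toMonoidHom
      simpa [mul_assoc] using this
    refine ⟨_, Grp.centralizerPPrimeCore_conj hc'.eq hy, ?_⟩
    simp [mul_assoc]
  · rw [Subgroup.card_map_of_injective (MulAut.conj g).injective]
    exact core_coprime x

theorem map_core (g x : G) : (core x).map (MulAut.conj g).toMonoidHom = core (g * x * g⁻¹) := by
  refine le_antisymm (map_core_le g x) fun y hy => ?_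
  have h := map_core_le g⁻¹ (g * x * g⁻¹) ⟨y, hy, rfl⟩
  rw [show g⁻¹ * (g * x * g⁻¹) * g⁻¹⁻¹ = x by group] at h
  exact ⟨_, h, by simp [mul_assoc]⟩

theorem map_coreOver_le (g : G) (B : Subgroup G) :
    (coreOver B).map (MulAut.conj g).toMonoidHom ≤ coreOver (B.map (MulAut.conj g).toMonoidHom) := by
  refine Subgroup.map_le_iff_le_comap.2 (iSup_le fun b => Subgroup.map_le_iff_le_comap.1 ?_)
  refine (map_core_le g (b : G)).trans (le_coreOver ?_ fun e => b.2.2 (conj_eq_one_iff.1 e))
  exact ⟨(b : G), b.2.1, by simp⟩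

/-- An element carrying `B` to a subgroup with the same closure normalizes that closure. -/
theorem mem_normalizer_coreOver {g : G} {B W : Subgroup G} (h1 : coreOver B = W)
    (h2 : coreOver (B.map (MulAut.conj g).toMonoidHom) = W) : g ∈ normalizer (W : Set G) := by
  have hle := map_coreOver_le g B
  rw [h1, h2] at hle
  have heq := eq_of_le_of_card_ge hle
    (le_of_eq (Subgroup.card_map_of_injective (MulAut.conj g).injective).symm)
  refine mem_normalizer_iff.2 fun y => ⟨fun hy => ?_, fun hy => ?_⟩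
  · have h : (MulAut.conj g).toMonoidHom y ∈ W.map (MulAut.conj g).toMonoidHom := mem_map_of_mem _ hy
    rw [heq] at h
    simpa using h
  · rw [← heq] at hy
    obtain ⟨w, hw, hwe⟩ := hy
    have : w = y := (MulAut.conj g).injective (by simpa using hwe)
    exact this ▸ hw

theorem mem_normalizer_of_conj_eq {g : G} {W : Subgroup G}
    (h : W.map (MulAut.conj g).toMonoidHom ≤ W) : g ∈ normalizer (W : Set G) := by
  have heq := eq_of_le_of_card_ge h
    (le_of_eq (Subgroup.card_map_of_injective (MulAut.conj g).injective).symm)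
  refine mem_normalizer_iff.2 fun y => ⟨fun hy => ?_, fun hy => ?_⟩
  · have h : (MulAut.conj g).toMonoidHom y ∈ W.map (MulAut.conj g).toMonoidHom := mem_map_of_mem _ hy
    rw [heq] at h
    simpa using h
  · rw [← heq] at hy
    obtain ⟨w, hw, hwe⟩ := hy
    have : w = y := (MulAut.conj g).injective (by simpa using hwe)
    exact this ▸ hw

/-- A 2-element normalizing a Sylow 2-subgroup lies in it. -/
theorem mem_sylow_of_normalizer (P : Sylow 2 G) {x : G} (hx : IsPGroup 2 (zpowers x))
    (hn : x ∈ normalizer ((P : Subgroup G) : Set G)) : x ∈ (P : Subgroup G) := by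
  have h := P.3 (hx.to_sup_of_normal_right' P.2 (zpowers_le.2 hn)) le_sup_right
  exact h ▸ mem_sup_left (mem_zpowers x)

/-- A 2-subgroup of a subgroup `M` containing `S` is conjugate under `M` into `S`. -/
theorem exists_conj_le (S : Sylow 2 G) {M Q : Subgroup G} (hSM : (S : Subgroup G) ≤ M) (hQM : Q ≤ M)
    (hQ : IsPGroup 2 Q) : ∃ m ∈ M, ∀ q ∈ Q, m * q * m⁻¹ ∈ (S : Subgroup G) := by
  haveI : Fact (Nat.Prime 2) := ⟨Nat.prime_two⟩
  obtain ⟨P, hP⟩ := (hQ.comap_of_injective M.subtype M.subtype_injective).exists_le_sylow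
  obtain ⟨m, hm⟩ := MulAction.exists_smul_eq M P (S.subtype hSM)
  refine ⟨m, m.2, fun q hq => ?_⟩
  have h : m • (⟨q, hQM hq⟩ : M) • (1 : M) = m * ⟨q, hQM hq⟩ := by simp
  have h1 : MulAut.conj m ⟨q, hQM hq⟩ ∈ ((m • P : Sylow 2 M) : Subgroup M) := by
    rw [Sylow.coe_subgroup_smul]
    exact Subgroup.smul_mem_pointwise_smul _ _ _ (hP (show q ∈ Q from hq))
  rw [hm] at h1
  simpa [mem_subgroupOf] using h1

/-- Every involution is conjugate into a given Sylow 2-subgroup. -/
theorem exists_conj_mem (S : Sylow 2 G) {t : G} (ht : t ^ 2 = 1) :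
    ∃ g : G, g * t * g⁻¹ ∈ (S : Subgroup G) := by
  obtain ⟨g, -, hg⟩ := exists_conj_le S le_top le_top (isPGroup_two_zpowers ht)
  exact ⟨g, hg t (mem_zpowers t)⟩

/-- If the cores of the centralizers of all involutions are trivial and these centralizers are solvable,
the group is of characteristic 2 type. -/
theorem isCharacteristicTwoType (hC : SolvCent G) (heven : Even (Nat.card G))
    (h : ∀ t : G, orderOf t = 2 → core t = ⊥) : Cfsg.IsCharacteristicTwoType G := by
  haveI : Fact (Nat.Prime 2) := ⟨Nat.prime_two⟩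
  refine ⟨heven, fun T hT hT1 => ?_⟩
  set N := normalizer (T : Set G) with hN
  -- an involution of the centre of `T`
  haveI : Nontrivial T := (Subgroup.nontrivial_iff_ne_bot T).2 hT1
  haveI := hT.center_nontrivial
  obtain ⟨w, hw⟩ := exists_prime_orderOf_dvd_card' (G := center T) 2 (by
    obtain ⟨n, hn0, hn⟩ := (hT.to_subgroup (center T)).nontrivial_iff_card.1 inferInstance
    rw [hn]; exact dvd_pow_self 2 hn0.ne')
  set t : G := ((w : T) : G) with ht
  have ht2 : orderOf t = 2 := by rw [ht, orderOf_coe, orderOf_coe, hw]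
  have htT : ∀ y ∈ T, Commute y t := fun y hy => congrArg Subtype.val (mem_center_iff.1 w.2 ⟨y, hy⟩)
  set L := centralizer ({t} : Set G) with hL
  have hTL : T ≤ L := fun y hy => mem_centralizer_singleton_iff.2 (htT y hy)
  -- the odd core of the local subgroup
  set O := (Cfsg.pPrimeCore 2 ↥N).map N.subtype with hO
  have hOc : (Nat.card O).Coprime 2 :=
    (Grp.pPrimeCore_coprime (p := 2) (G := ↥N)).coprime_dvd_left (card_map_dvd _ _)
  have hOT : ∀ y ∈ O, ∀ x ∈ T, Commute y x := by
    rintro _ ⟨y, hy, rfl⟩ x hx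
    haveI : (T.subgroupOf N).Normal := normal_subgroupOf_iff_le_normalizer le_normalizer |>.2 le_rfl
    haveI := Grp.pPrimeCore_isNormal (p := 2) (G := ↥N)
    have hc := Grp.commute_of_coprime_normal
      (M := Cfsg.pPrimeCore 2 ↥N) (N := T.subgroupOf N) (by
        obtain ⟨n, hn⟩ := IsPGroup.iff_card.1 hT
        rw [Nat.card_congr (subgroupOfEquivOfLe (le_normalizer : T ≤ N)).toEquiv, hn]
        exact (Grp.pPrimeCore_coprime (p := 2) (G := ↥N)).pow_right n) hy
    exact (congrArg Subtype.val (mem_centralizer_iff.1 hc (⟨x, le_normalizer hx⟩ : N) hx)).symm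
  have hObot : O = ⊥ := by
    have hOL : O ≤ L := fun y hy => mem_centralizer_singleton_iff.2 (hOT y hy t (w : T).2)
    have hle : O.subgroupOf L ≤ Cfsg.pPrimeCore 2 L := by
      refine ConstrainedCores.le_core (constrained_centralizer (localConstrained hC) ht2)
        (hT.of_equiv (subgroupOfEquivOfLe hTL).symm) (fun y hy => ?_) ?_ ?_
      · exact mem_centralizer_iff.2 fun x hx => Subtype.ext (hOT _ hy _ hx).eq.symm
      · intro c hc
        have hcN : (c : G) ∈ N := by
          refine centralizer_le_normalizer _ (mem_centralizer_iff.2 fun x hx => ?_)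
          exact congrArg Subtype.val (mem_centralizer_iff.1 hc (⟨x, hTL hx⟩ : L) hx)
        have key : ∀ d ∈ N, ∀ y ∈ O, d * y * d⁻¹ ∈ O := by
          rintro d hd _ ⟨y, hy, rfl⟩
          exact ⟨⟨d, hd⟩ * y * ⟨d, hd⟩⁻¹, Grp.pPrimeCore_isNormal.conj_mem y hy _, rfl⟩
        refine mem_normalizer_iff.2 fun y => ⟨fun hy => key c hcN y hy, fun hy => ?_⟩
        have := key (c : G)⁻¹ (inv_mem hcN) _ hy
        simpa [mem_subgroupOf, mul_assoc] using this
      · rwa [Nat.card_congr (subgroupOfEquivOfLe hOL).toEquiv]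
    refine le_bot_iff.1 (fun y hy => ?_)
    rw [← h t ht2]
    exact ⟨⟨y, hOL hy⟩, hle (mem_subgroupOf.2 hy), rfl⟩
  have h0 : Cfsg.pPrimeCore 2 ↥N = ⊥ := (map_eq_bot_iff_of_injective _ N.subtype_injective).1 hObot
  have hq := Transfer.Transitivity.centralizer_pCore_quotient (localConstrained hC T hT hT1)
  let e : ↥N ≃* ↥N ⧸ Cfsg.pPrimeCore 2 ↥N :=
    QuotientGroup.quotientBot.symm.trans (QuotientGroup.quotientMulEquivOfEq h0.symm)
  intro c hc
  haveI := Grp.pCore_isNormal (p := 2) (G := ↥N ⧸ Cfsg.pPrimeCore 2 ↥N)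
  have hpc : (Cfsg.pCore 2 (↥N ⧸ Cfsg.pPrimeCore 2 ↥N)).comap e.toMonoidHom ≤ Cfsg.pCore 2 ↥N :=
    Grp.le_pCore inferInstance (Grp.pCore_isPGroup.comap_of_injective _ e.injective)
  refine hpc (mem_comap.2 (hq (mem_centralizer_iff.2 fun r hr => ?_)))
  obtain ⟨r, rfl⟩ := e.surjective r
  have := mem_centralizer_iff.1 hc r (hpc (mem_comap.2 hr))
  simpa using congrArg e.toMonoidHom this

/-- A strongly embedded subgroup meets a normal subgroup of even order which it does not contain in a
strongly embedded subgroup. -/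
theorem exists_stronglyEmbedded_subgroupOf {M : Subgroup G} (hM : Cfsg.IsStronglyEmbedded M)
    (H : Subgroup G) (hH : Even (Nat.card ↥(M ⊓ H))) (hne : ¬ H ≤ M) :
    ∃ K : Subgroup H, Cfsg.IsStronglyEmbedded K := by
  have hiff := (Invol.isStronglyEmbedded_iff hM.1 hM.2.1).1 hM
  have hK : Even (Nat.card ↥(M.subgroupOf H)) := by
    rw [← inf_subgroupOf_right, Nat.card_congr (subgroupOfEquivOfLe inf_le_right).toEquiv]; exact hH
  have htop : M.subgroupOf H ≠ ⊤ := fun e => hne (subgroupOf_eq_top.1 e)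
  refine ⟨_, (Invol.isStronglyEmbedded_iff htop hK).2 fun t ht ht2 g hg => ?_⟩
  exact hiff (t : G) ht (by rw [orderOf_coe, ht2]) (g : G) hg

end Cfsg.Agent.Grp.ZN
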