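import Cfsg.Agent.Lib.Grp.ZNGroups.Basic

/-!
# A uniform core closure gives a strongly embedded subgroup or trivial cores

If an odd subgroup `W` is the closure of the cores over every four-subgroup of a Sylow 2-subgroup `S` and
`N(W)` contains the centralizer of a central involution of `S`, then `N(W)` is strongly embedded unless
`W = 1`.
-/

set_option autoImplicit false
set_option linter.unusedSectionVars false

namespace Cfsg.Agent.Grp.ZN

open Cfsg Subgroup ConstrainedCores

universe u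

variable {G : Type u} [Group G] [Finite G]

/-- `W` is the closure of the cores over every four-subgroup of `S`. -/
structure Uniform (S : Sylow 2 G) (W : Subgroup G) : Prop where
  odd : Odd (Nat.card W)
  four : ∀ B : Subgroup G, B ≤ (S : Subgroup G) → Cfsg.IsElementaryAbelian 2 B → 4 ≤ Nat.card B →
    coreOver B = W
  exists_four : ∃ B : Subgroup G, B ≤ (S : Subgroup G) ∧ Cfsg.IsElementaryAbelian 2 B ∧ 4 ≤ Nat.card B

variable {S : Sylow 2 G} {W : Subgroup G}

theorem map_elemAb {B : Subgroup G} (g : G) (hB : Cfsg.IsElementaryAbelian 2 B) :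
    Cfsg.IsElementaryAbelian 2 (B.map (MulAut.conj g).toMonoidHom) := by
  refine ⟨⟨⟨?_⟩⟩, ?_⟩
  · rintro ⟨_, a, ha, rfl⟩ ⟨_, b, hb, rfl⟩
    exact Subtype.ext ((show Commute a b from Grp.elemAb_comm hB a ha b hb).map
      (MulAut.conj g).toMonoidHom).eq
  · rintro _ ⟨a, ha, rfl⟩
    rw [← map_pow, hB.2 a ha, map_one]

theorem Uniform.conj_mem (h : Uniform S W) {n : G} {B : Subgroup G} (hBS : B ≤ (S : Subgroup G))
    (hB : Cfsg.IsElementaryAbelian 2 B) (h4 : 4 ≤ Nat.card B)
    (hn : ∀ b ∈ B, n * b * n⁻¹ ∈ (S : Subgroup G)) : n ∈ normalizer (W : Set G) := by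
  refine mem_normalizer_coreOver (h.four B hBS hB h4) (h.four _ ?_ (map_elemAb n hB) ?_)
  · rintro _ ⟨b, hb, rfl⟩
    exact hn b hb
  · rwa [Subgroup.card_map_of_injective (MulAut.conj n).injective]

theorem Uniform.normalizer_sylow_le (h : Uniform S W) :
    normalizer ((S : Subgroup G) : Set G) ≤ normalizer (W : Set G) := fun n hn => by
  obtain ⟨B, hBS, hB, h4⟩ := h.exists_four
  exact h.conj_mem hBS hB h4 fun b hb => (mem_normalizer_iff.1 hn b).1 (hBS hb)

theorem Uniform.sylow_le (h : Uniform S W) : (S : Subgroup G) ≤ normalizer (W : Set G) :=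
  le_normalizer.trans h.normalizer_sylow_le

theorem Uniform.core_le_W (h : Uniform S W) {z : G} (hzS : z ∈ (S : Subgroup G)) (hz : z ^ 2 = 1)
    (hzc : ∀ s ∈ (S : Subgroup G), Commute z s) {t : G} (htS : t ∈ (S : Subgroup G)) (ht : orderOf t = 2) :
    core t ≤ W := by
  have ht2 : t ^ 2 = 1 := by rw [← ht]; exact pow_orderOf_eq_one t
  have ht1 : t ≠ 1 := Invol.ne_one_of_orderOf_two ht
  by_cases htz : t ∈ zpowers z
  · obtain ⟨B, hBS, hB, h4⟩ := h.exists_four
    obtain ⟨a, haB, haz⟩ := exists_notMem h4 hz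
    have hz1 : z ≠ 1 := by
      rintro rfl
      rw [zpowers_one_eq_bot, mem_bot] at htz
      exact ht1 htz
    rw [← h.four _ (pair_le hzS (hBS haB)) (elemAb_pair hz (hB.2 a haB) (hzc a (hBS haB)))
      (four_le_card_sup hz (hB.2 a haB) (hzc a (hBS haB)) hz1 haz)]
    exact le_coreOver (mem_sup_left htz) ht1
  · by_cases hz1 : z = 1
    · obtain ⟨B, hBS, hB, h4⟩ := h.exists_four
      haveI : Fact (Nat.Prime 2) := ⟨Nat.prime_two⟩
      haveI : Nontrivial (S : Subgroup G) := (Subgroup.nontrivial_iff_ne_bot _).2 fun e => ht1 (by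
        rw [e, mem_bot] at htS; exact htS)
      haveI := S.2.center_nontrivial
      obtain ⟨w, hw⟩ := exists_prime_orderOf_dvd_card' (G := center (S : Subgroup G)) 2 (by
        obtain ⟨n, hn0, hn⟩ := (S.2.to_subgroup (center (S : Subgroup G))).nontrivial_iff_card.1 inferInstance
        rw [hn]; exact dvd_pow_self 2 hn0.ne')
      set c : G := ((w : (S : Subgroup G)) : G) with hc
      have hc2 : orderOf c = 2 := by rw [hc, orderOf_coe, orderOf_coe, hw]
      have hcsq : c ^ 2 = 1 := by rw [← hc2]; exact pow_orderOf_eq_one c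
      have hcc : ∀ s ∈ (S : Subgroup G), Commute c s := fun s hs =>
        (congrArg Subtype.val (mem_center_iff.1 w.2 ⟨s, hs⟩)).symm
      have hcS : c ∈ (S : Subgroup G) := (w : (S : Subgroup G)).2
      by_cases htc : t ∈ zpowers c
      · obtain ⟨a, haB, hac⟩ := exists_notMem h4 hcsq
        rw [← h.four _ (pair_le hcS (hBS haB)) (elemAb_pair hcsq (hB.2 a haB) (hcc a (hBS haB)))
          (four_le_card_sup hcsq (hB.2 a haB) (hcc a (hBS haB)) (Invol.ne_one_of_orderOf_two hc2) hac)]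
        exact le_coreOver (mem_sup_left htc) ht1
      · rw [← h.four _ (pair_le hcS htS) (elemAb_pair hcsq ht2 (hcc t htS))
          (four_le_card_sup hcsq ht2 (hcc t htS) (Invol.ne_one_of_orderOf_two hc2) htc)]
        exact le_coreOver (mem_sup_right (mem_zpowers t)) ht1
    · rw [← h.four _ (pair_le hzS htS) (elemAb_pair hz ht2 (hzc t htS))
        (four_le_card_sup hz ht2 (hzc t htS) hz1 htz)]
      exact le_coreOver (mem_sup_right (mem_zpowers t)) ht1

theorem conj_mem_omegaCenter {T : Subgroup G} {n x : G} (hn : n ∈ normalizer (T : Set G))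
    (hx : x ∈ omegaCenter T) : n * x * n⁻¹ ∈ omegaCenter T := by
  obtain ⟨hxT, hxc, hx2⟩ := mem_omegaCenter.1 hx
  refine mem_omegaCenter.2 ⟨(mem_normalizer_iff.1 hn x).1 hxT, fun s hs => ?_, ?_⟩
  · have h1 : n⁻¹ * s * n ∈ T := by
      have := (mem_normalizer_iff.1 (inv_mem hn) s).1 hs
      simpa using this
    have := (hxc _ h1).map (MulAut.conj n).toMonoidHom
    simpa [mul_assoc] using this
  · rw [conj_pow, hx2, mul_one, mul_inv_cancel]

/-- The centralizer of an involution with a Sylow 2-subgroup inside `S` lies in `N(W)`. -/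
theorem Uniform.centralizer_le_of (h : Uniform S W) (hcon : LocalConstrained G)
    (hcore : ∀ {t : G}, t ∈ (S : Subgroup G) → orderOf t = 2 → core t ≤ W) {t : G} (ht : orderOf t = 2)
    {Q : Subgroup G} (hQS : Q ≤ (S : Subgroup G)) (hQC : Q ≤ centralizer ({t} : Set G))
    (hQmax : ∀ T : Subgroup G, IsPGroup 2 T → Q ≤ T → T ≤ centralizer ({t} : Set G) → T ≤ Q)
    (htQ : t ∈ Q) {a : G} (haQ : a ∈ Q) (ha : a ^ 2 = 1) (hac : ∀ q ∈ Q, Commute a q) (hat : a ∉ zpowers t) :
    centralizer ({t} : Set G) ≤ normalizer (W : Set G) := by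
  haveI : Fact (Nat.Prime 2) := ⟨Nat.prime_two⟩
  set C := centralizer ({t} : Set G) with hC
  have hWM : W ≤ normalizer (W : Set G) := le_normalizer
  have hQp : IsPGroup 2 Q := S.2.to_le hQS
  obtain ⟨P, hP⟩ := (hQp.comap_of_injective C.subtype C.subtype_injective).exists_le_sylow
  have hPQ : ∀ x : C, x ∈ (P : Subgroup C) → (x : G) ∈ Q := fun x hx =>
    hQmax ((P : Subgroup C).map C.subtype) (P.2.map _)
      (fun q hq => ⟨⟨q, hQC hq⟩, hP hq, rfl⟩) (map_subtype_le _) ⟨x, hx, rfl⟩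
  have hC2 := constrained_centralizer hcon ht
  set O := Cfsg.pPrimeCore 2 ↥C with hO
  set Y := Cfsg.pPrimePCore 2 ↥C with hY
  haveI hOn : O.Normal := Grp.pPrimeCore_isNormal
  haveI hYn : Y.Normal := by
    haveI := Grp.pCore_isNormal (p := 2) (G := ↥C ⧸ Cfsg.pPrimeCore 2 ↥C)
    rw [hY, Cfsg.pPrimePCore]; infer_instance
  have hOY : O ≤ Y := fun o ho => by
    rw [hY, Cfsg.pPrimePCore, mem_comap,
      show QuotientGroup.mk' (Cfsg.pPrimeCore 2 ↥C) o = 1 from (QuotientGroup.eq_one_iff o).2 ho]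
    exact one_mem _
  -- a Sylow 2-subgroup of `Y` inside `P`
  set T₀ : Subgroup C := (P : Subgroup C) ⊓ Y with hT₀
  obtain ⟨P₀, hP₀⟩ := ((P.2.to_le (inf_le_left : T₀ ≤ P)).comap_of_injective Y.subtype
    Y.subtype_injective).exists_le_sylow
  have hle : T₀ ≤ (P₀ : Subgroup Y).map Y.subtype := fun x hx => ⟨⟨x, hx.2⟩, hP₀ hx, rfl⟩
  obtain ⟨c, -, hc⟩ := exists_conj_le (G := ↥C) P le_top le_top (P₀.2.map Y.subtype)
  have heq : T₀ = (P₀ : Subgroup Y).map Y.subtype := by
    refine eq_of_le_of_card_ge hle ?_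
    rw [← Subgroup.card_map_of_injective (f := (MulAut.conj c).toMonoidHom) (MulAut.conj c).injective]
    refine Subgroup.card_le_of_le ?_
    rintro _ ⟨y, hy, rfl⟩
    obtain ⟨y', hy', rfl⟩ := hy
    exact ⟨hc _ ⟨y', hy', rfl⟩, hYn.conj_mem _ y'.2 c⟩
  have htop : normalizer (T₀ : Set C) ⊔ Y = ⊤ := by
    rw [heq]; exact Sylow.normalizer_sup_eq_top P₀
  have hYle : Y ≤ O ⊔ T₀ := by
    refine relIndex_eq_one.1 (Nat.eq_one_of_dvd_coprimes ?_ (relIndex_dvd_of_le_left Y (le_sup_left : O ≤ O ⊔ T₀))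
      (relIndex_dvd_of_le_left Y (le_sup_right : T₀ ≤ O ⊔ T₀)))
    obtain ⟨k, hk⟩ := IsPGroup.iff_card.1 (Grp.pCore_isPGroup (p := 2) (G := ↥C ⧸ Cfsg.pPrimeCore 2 ↥C))
    have h1 : O.relIndex Y = 2 ^ k := by
      change (O.subgroupOf Y).index = _
      rw [← hk]
      let f : Y →* Cfsg.pCore 2 (↥C ⧸ O) :=
        ((QuotientGroup.mk' O).comp Y.subtype).codRestrict _ fun y => y.2
      have hf : Function.Surjective f := fun ⟨q, hq⟩ => by
        obtain ⟨x, rfl⟩ := QuotientGroup.mk'_surjective O q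
        exact ⟨⟨x, hq⟩, rfl⟩
      rw [show O.subgroupOf Y = f.ker by
        ext y; rw [MonoidHom.mem_ker, Subtype.ext_iff, mem_subgroupOf]
        exact (QuotientGroup.eq_one_iff (y : C)).symm, Subgroup.index_ker, MonoidHom.range_eq_top.2 hf,
        Subgroup.card_top]
    have h2 : ¬ 2 ∣ T₀.relIndex Y := by
      rw [relIndex, heq, subgroupOf, comap_map_eq_self_of_injective Y.subtype_injective]
      exact P₀.not_dvd_index
    rw [h1]
    exact (Nat.prime_two.coprime_iff_not_dvd.2 h2).pow_left k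
  -- both involutions lie in `T₀`
  have haC : a ∈ C := hQC haQ
  have hmem : ∀ x : G, ∀ hx : x ∈ Q, (∀ q ∈ Q, Commute x q) → (⟨x, hQC hx⟩ : C) ∈ T₀ := by
    intro x hx hxc
    have hxP : (⟨x, hQC hx⟩ : C) ∈ (P : Subgroup C) := hP hx
    refine ⟨hxP, hC2 P₀ (mem_centralizer_iff.2 fun p hp => ?_)⟩
    rw [← heq] at hp
    exact Subtype.ext (hxc _ (hPQ p hp.1)).eq.symm
  have htc : ∀ q ∈ Q, Commute t q := fun q hq => (mem_centralizer_singleton_iff.1 (hQC hq)).symm
  set B := omegaCenter (T₀.map C.subtype) with hB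
  have hBS : B ≤ (S : Subgroup G) := fun x hx => by
    obtain ⟨y, hy, rfl⟩ := (mem_omegaCenter.1 hx).1
    exact hQS (hPQ y hy.1)
  have hcomm : ∀ x : G, ∀ hx : x ∈ Q, x ^ 2 = 1 → (∀ q ∈ Q, Commute x q) → x ∈ B := fun x hx hx2 hxc =>
    mem_omegaCenter.2 ⟨⟨_, hmem x hx hxc, rfl⟩, fun s hs => by
      obtain ⟨y, hy, rfl⟩ := hs
      exact hxc _ (hPQ y hy.1), hx2⟩
  have htsq : t ^ 2 = 1 := by rw [← ht]; exact pow_orderOf_eq_one t
  have hB4 : 4 ≤ Nat.card B :=
    le_trans (four_le_card_sup htsq ha (htc a haQ) (Invol.ne_one_of_orderOf_two ht) hat)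
      (Subgroup.card_le_of_le (pair_le (hcomm t htQ htsq htc) (hcomm a haQ ha hac)))
  have hNle : normalizer (T₀ : Set C) ≤ (normalizer (W : Set G)).subgroupOf C := by
    intro n hn
    have hn' : (n : G) ∈ normalizer ((T₀.map C.subtype : Subgroup G) : Set G) :=
      le_normalizer_map C.subtype ⟨n, hn, rfl⟩
    exact mem_subgroupOf.2 (h.conj_mem hBS (omegaCenter_elemAb _) hB4 fun b hb =>
      hBS (conj_mem_omegaCenter hn' hb))
  have hTle : T₀ ≤ (normalizer (W : Set G)).subgroupOf C := le_normalizer.trans hNle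
  have hOle : O ≤ (normalizer (W : Set G)).subgroupOf C := fun o ho =>
    mem_subgroupOf.2 (hWM (hcore (hQS htQ) ht ⟨o, ho, rfl⟩))
  intro x hx
  have h1 : (⟨x, hx⟩ : C) ∈ normalizer (T₀ : Set C) ⊔ Y := htop ▸ mem_top _
  exact mem_subgroupOf.1 ((sup_le hNle (hYle.trans (sup_le hOle hTle))) h1)

/-- All centralizers of involutions of `S` lie in `N(W)`. -/
theorem Uniform.centralizer_le (h : Uniform S W) (hcon : LocalConstrained G) {z : G}
    (hzS : z ∈ (S : Subgroup G)) (hz : orderOf z = 2) (hzc : ∀ s ∈ (S : Subgroup G), Commute z s)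
    (hCz : centralizer ({z} : Set G) ≤ normalizer (W : Set G)) {t : G} (htS : t ∈ (S : Subgroup G))
    (ht : orderOf t = 2) : centralizer ({t} : Set G) ≤ normalizer (W : Set G) := by
  haveI : Fact (Nat.Prime 2) := ⟨Nat.prime_two⟩
  have hzsq : z ^ 2 = 1 := by rw [← hz]; exact pow_orderOf_eq_one z
  set M := normalizer (W : Set G) with hM
  have hcore : ∀ {t : G}, t ∈ (S : Subgroup G) → orderOf t = 2 → core t ≤ W := fun ht1 ht2 =>
    h.core_le_W hzS hzsq hzc ht1 ht2
  set D := M ⊓ centralizer ({t} : Set G) with hD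
  obtain ⟨P⟩ : Nonempty (Sylow 2 ↥D) := Sylow.nonempty
  set Q := (P : Subgroup ↥D).map D.subtype with hQ
  have hQD : Q ≤ D := map_subtype_le _
  have htD : t ∈ D := ⟨h.sylow_le htS, mem_centralizer_singleton_iff.2 rfl⟩
  have htsq : t ^ 2 = 1 := by rw [← ht]; exact pow_orderOf_eq_one t
  have htQ : t ∈ Q := by
    refine ⟨⟨t, htD⟩, mem_sylow_of_normalizer P (isPGroup_two_zpowers (Subtype.ext htsq)) ?_, rfl⟩
    refine centralizer_le_normalizer _ (mem_centralizer_iff.2 fun y _ => Subtype.ext ?_)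
    exact mem_centralizer_singleton_iff.1 y.2.2
  obtain ⟨m, hm, hmQ⟩ := exists_conj_le S h.sylow_le (hQD.trans inf_le_left) (P.2.map _)
  set t' := m * t * m⁻¹ with ht'
  have ht'o : orderOf t' = 2 := by rw [ht', Invol.orderOf_conj_eq]; exact ht
  have ht'S : t' ∈ (S : Subgroup G) := hmQ t htQ
  have key : centralizer ({t'} : Set G) ≤ M := by
    by_cases htz : z ∈ zpowers t'
    · obtain ⟨i, hi⟩ := mem_zpowers_iff.1 htz
      have hz' : z = t' := by
        rcases Int.even_or_odd' i with ⟨j, rfl | rfl⟩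
        · exfalso
          rw [zpow_mul, zpow_two, Invol.mul_self_of_orderOf_two ht'o, one_zpow] at hi
          exact Invol.ne_one_of_orderOf_two hz hi.symm
        · rw [zpow_add, zpow_mul, zpow_two, Invol.mul_self_of_orderOf_two ht'o, one_zpow, one_mul, zpow_one] at hi
          exact hi.symm
      rw [← hz']; exact hCz
    set Q' := Q.map (MulAut.conj m).toMonoidHom with hQ'
    have hQ'S : Q' ≤ (S : Subgroup G) := by
      rintro _ ⟨q, hq, rfl⟩; exact hmQ q hq
    have hQ'C : Q' ≤ centralizer ({t'} : Set G) := by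
      rintro _ ⟨q, hq, rfl⟩
      have := (show Commute q t from mem_centralizer_singleton_iff.1 (hQD hq).2).map
        (MulAut.conj m).toMonoidHom
      exact mem_centralizer_singleton_iff.2 (by simpa [ht'] using this.eq)
    have hQ'max : ∀ T : Subgroup G, IsPGroup 2 T → Q' ≤ T → T ≤ centralizer ({t'} : Set G) → T ≤ M →
        T ≤ Q' := by
      intro T hT hQT hTC hTM
      have h1 : T.map (MulAut.conj m⁻¹).toMonoidHom ≤ D := by
        rintro _ ⟨x, hx, rfl⟩
        refine ⟨?_, ?_⟩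
        · simpa using mul_mem (mul_mem (inv_mem hm) (hTM hx)) hm
        · have := (show Commute x t' from mem_centralizer_singleton_iff.1 (hTC hx)).map
            (MulAut.conj m⁻¹).toMonoidHom
          exact mem_centralizer_singleton_iff.2 (by simpa [ht', mul_assoc] using this.eq)
      have h2 : (P : Subgroup ↥D) ≤ (T.map (MulAut.conj m⁻¹).toMonoidHom).subgroupOf D := by
        intro p hp
        exact ⟨_, hQT ⟨(p : G), ⟨p, hp, rfl⟩, rfl⟩, by simp [mul_assoc]⟩
      have h3 := P.3 ((hT.map _).comap_of_injective D.subtype D.subtype_injective) h2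
      intro x hx
      have h4 : (⟨_, h1 ⟨x, hx, rfl⟩⟩ : D) ∈ (P : Subgroup ↥D) := h3 ▸ ⟨x, hx, rfl⟩
      exact ⟨_, ⟨_, h4, rfl⟩, by simp [mul_assoc]⟩
    have hS_C : (S : Subgroup G) ⊓ centralizer ({t'} : Set G) ≤ Q' :=
      hQ'max _ (S.2.to_le inf_le_left) (le_inf hQ'S hQ'C) inf_le_right (inf_le_left.trans h.sylow_le)
    have ht'Q : t' ∈ Q' := hS_C ⟨ht'S, mem_centralizer_singleton_iff.2 rfl⟩
    have hzQ : z ∈ Q' := hS_C ⟨hzS, mem_centralizer_singleton_iff.2 (hzc t' ht'S).eq⟩
    refine h.centralizer_le_of hcon hcore ht'o hQ'S hQ'C (fun T hT hQT hTC => ?_) ht'Q hzQ hzsq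
      (fun q hq => hzc q (hQ'S hq)) htz
    by_contra hTQ
    -- a larger 2-subgroup gives a normalizing element
    haveI := hT.isNilpotent
    have hlt : Q'.subgroupOf T < ⊤ := lt_top_iff_ne_top.2 fun e => hTQ (subgroupOf_eq_top.1 e)
    obtain ⟨n, hn, hnQ⟩ := SetLike.exists_of_lt
      (Group.normalizerCondition_of_isNilpotent (G := T) _ hlt)
    have hnQ' : (n : G) ∈ normalizer (Q' : Set G) := by
      refine mem_normalizer_iff.2 fun x => ?_
      constructor
      · intro hx
        exact (mem_normalizer_iff.1 hn ⟨x, hQT hx⟩).1 hx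
      · intro hx
        have hxT : x ∈ T := by
          have := mul_mem (mul_mem (inv_mem n.2) (hQT hx)) n.2
          simpa [mul_assoc] using this
        exact (mem_normalizer_iff.1 hn ⟨x, hxT⟩).2 hx
    set B := omegaCenter Q' with hB
    have hmemB : ∀ x ∈ Q', x ^ 2 = 1 → (∀ q ∈ Q', Commute x q) → x ∈ B := fun x hx h2 hc =>
      mem_omegaCenter.2 ⟨hx, hc, h2⟩
    have ht'sq : t' ^ 2 = 1 := by rw [← ht'o]; exact pow_orderOf_eq_one t'
    have hnM : (n : G) ∈ M := by
      refine h.conj_mem (B := B) (fun x hx => hQ'S (mem_omegaCenter.1 hx).1) (omegaCenter_elemAb _)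
        (le_trans (four_le_card_sup ht'sq hzsq (hzc t' ht'S).symm (Invol.ne_one_of_orderOf_two ht'o) htz)
          (Subgroup.card_le_of_le (pair_le (hmemB t' ht'Q ht'sq fun q hq =>
            (mem_centralizer_singleton_iff.1 (hQ'C hq)).symm)
            (hmemB z hzQ hzsq fun q hq => hzc q (hQ'S hq))))) fun b hb =>
        hQ'S (mem_omegaCenter.1 (conj_mem_omegaCenter hnQ' hb)).1
    have hsup : Q' ⊔ zpowers (n : G) ≤ T := sup_le hQT (zpowers_le.2 n.2)
    exact hnQ (mem_subgroupOf.2 (hQ'max _ (hT.to_le hsup) le_sup_left (hsup.trans hTC)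
      (sup_le (hQ'S.trans h.sylow_le) (zpowers_le.2 hnM)) (mem_sup_right (mem_zpowers _))))
  intro x hx
  have h1 : m * x * m⁻¹ ∈ M := key (mem_centralizer_singleton_iff.2 (by
    have := (show Commute x t from mem_centralizer_singleton_iff.1 hx).map (MulAut.conj m).toMonoidHom
    simpa [ht'] using this.eq))
  simpa [mul_assoc] using mul_mem (mul_mem (inv_mem hm) h1) hm

/-- A uniform closure gives a strongly embedded subgroup or trivial cores. -/
theorem Uniform.dichotomy (h : Uniform S W) (hcon : LocalConstrained G) (hO : Cfsg.pPrimeCore 2 G = ⊥)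
    {z : G} (hzS : z ∈ (S : Subgroup G)) (hz : orderOf z = 2) (hzc : ∀ s ∈ (S : Subgroup G), Commute z s)
    (hCz : centralizer ({z} : Set G) ≤ normalizer (W : Set G)) :
    (∃ M : Subgroup G, Cfsg.IsStronglyEmbedded M ∧ (S : Subgroup G) ≤ M) ∨
      ∀ t : G, orderOf t = 2 → core t = ⊥ := by
  haveI : Fact (Nat.Prime 2) := ⟨Nat.prime_two⟩
  have hzsq : z ^ 2 = 1 := by rw [← hz]; exact pow_orderOf_eq_one z
  by_cases hW : W = ⊥
  · refine Or.inr fun t ht => ?_
    obtain ⟨g, hg⟩ := exists_conj_mem S (show t ^ 2 = 1 by rw [← ht]; exact pow_orderOf_eq_one t)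
    have h1 := h.core_le_W hzS hzsq hzc hg (by rw [Invol.orderOf_conj_eq]; exact ht)
    rw [hW, le_bot_iff, ← map_core] at h1
    exact (map_eq_bot_iff_of_injective _ (MulAut.conj g).injective).1 h1
  left
  set M := normalizer (W : Set G) with hM
  have hSM : (S : Subgroup G) ≤ M := h.sylow_le
  have htop : M ≠ ⊤ := fun e => hW (le_bot_iff.1 (hO ▸ Grp.le_pPrimeCore
    (normalizer_eq_top_iff.1 e) (Nat.coprime_two_right.2 h.odd)))
  have heven : Even (Nat.card M) := Invol.even_card_of_mem hz (hSM hzS)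
  refine ⟨M, (Invol.isStronglyEmbedded_iff htop heven).2 fun t ht ht2 g hg => ?_, hSM⟩
  have hCS : ∀ u ∈ M, orderOf u = 2 → centralizer ({u} : Set G) ≤ M := by
    intro u hu hu2
    obtain ⟨m, hm, hmu⟩ := exists_conj_le S hSM (zpowers_le.2 hu)
      (isPGroup_two_zpowers (show u ^ 2 = 1 by rw [← hu2]; exact pow_orderOf_eq_one u))
    have h1 := h.centralizer_le hcon hzS hz hzc hCz (hmu u (mem_zpowers u))
      (by rw [Invol.orderOf_conj_eq]; exact hu2)
    intro x hx
    have h2 : m * x * m⁻¹ ∈ M := h1 (mem_centralizer_singleton_iff.2 (by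
      have := (show Commute x u from mem_centralizer_singleton_iff.1 hx).map (MulAut.conj m).toMonoidHom
      simpa using this.eq))
    simpa [mul_assoc] using mul_mem (mul_mem (inv_mem hm) h2) hm
  obtain ⟨m, hm, hmt⟩ := exists_conj_le S hSM (zpowers_le.2 ht)
    (isPGroup_two_zpowers (show t ^ 2 = 1 by rw [← ht2]; exact pow_orderOf_eq_one t))
  -- it is enough to move a central involution
  have hzconj : ∀ k : G, k * z * k⁻¹ ∈ M → k ∈ M := by
    intro k hk
    have hko : orderOf (k * z * k⁻¹) = 2 := by rw [Invol.orderOf_conj_eq]; exact hz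
    have hP : ((k • S : Sylow 2 G) : Subgroup G) ≤ M := by
      intro x hx
      rw [Sylow.coe_subgroup_smul, mem_pointwise_smul_iff_inv_smul_mem, ← map_inv, MulAut.smul_def,
        MulAut.conj_apply, inv_inv] at hx
      refine hCS _ hk hko (mem_centralizer_singleton_iff.2 ?_)
      have := (hzc _ hx).symm.map (MulAut.conj k).toMonoidHom
      simpa [mul_assoc] using this.eq
    obtain ⟨m', hm'⟩ := MulAction.exists_smul_eq M ((k • S).subtype hP) (S.subtype hSM)
    rw [Sylow.smul_subtype] at hm'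
    have h3 : ((m' : G) * k) • S = S := by
      rw [mul_smul]
      exact Sylow.subtype_injective hm'
    have h4 := h.normalizer_sylow_le (Sylow.smul_eq_iff_mem_normalizer.1 h3)
    simpa using mul_mem (inv_mem m'.2) h4
  have hu2 : orderOf (g⁻¹ * t * g) = 2 := by
    have := Invol.orderOf_conj_eq g⁻¹ t
    rw [inv_inv] at this
    rw [this, ht2]
  have hzt : m⁻¹ * z * m ∈ centralizer ({t} : Set G) := by
    have := (hzc _ (hmt t (mem_zpowers t))).map (MulAut.conj m⁻¹).toMonoidHom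
    exact mem_centralizer_singleton_iff.2 (by simpa [mul_assoc] using this.eq)
  have h5 : (g⁻¹ * m⁻¹) * z * (g⁻¹ * m⁻¹)⁻¹ ∈ M := by
    refine hCS _ hg hu2 (mem_centralizer_singleton_iff.2 ?_)
    have := (show Commute _ _ from mem_centralizer_singleton_iff.1 hzt).map (MulAut.conj g⁻¹).toMonoidHom
    simpa [mul_assoc] using this.eq
  have h6 := inv_mem (mul_mem (hzconj _ h5) hm)
  simpa using h6

end Cfsg.Agent.Grp.ZN
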