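import Cfsg.Agent.Lib.Grp.ZNGroups.Main
import Cfsg.Agent.S0518
import Cfsg.Agent.Lib.Block.CentreFreeTwo.Basic
import Cfsg.Agent.Lib.Block.Order168Klein

/-!
# The characteristic 2 case when all 2-local subgroups are solvable
-/

set_option autoImplicit false
set_option linter.unusedSectionVars false

namespace Cfsg.Agent.Grp.ZN

open Cfsg Subgroup ConstrainedCores

universe u

variable {G : Type u} [Group G] [Finite G]

/-- A strongly embedded subgroup contains a Sylow 2-subgroup. -/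
theorem exists_sylow_le {K : Subgroup G} (hK : Cfsg.IsStronglyEmbedded K) :
    ∃ P : Sylow 2 G, (P : Subgroup G) ≤ K := by
  haveI : Fact (Nat.Prime 2) := ⟨Nat.prime_two⟩
  obtain ⟨Q⟩ : Nonempty (Sylow 2 ↥K) := Sylow.nonempty
  obtain ⟨P, hP⟩ := (Q.2.map K.subtype).exists_le_sylow
  refine ⟨P, ?_⟩
  by_contra hPK
  set Q' := (Q : Subgroup K).map K.subtype with hQ'
  haveI := P.2.isNilpotent
  have hne : ¬ (P : Subgroup G) ≤ Q' := fun h => hPK (h.trans (map_subtype_le _))
  have hlt : Q'.subgroupOf P < ⊤ := lt_top_iff_ne_top.2 fun e => hne (subgroupOf_eq_top.1 e)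
  obtain ⟨n, hn, hnQ⟩ := SetLike.exists_of_lt
    (Group.normalizerCondition_of_isNilpotent (G := (P : Subgroup G)) _ hlt)
  obtain ⟨t, ht⟩ := exists_prime_orderOf_dvd_card' (G := Q) 2
    (Q.dvd_card_of_dvd_card hK.2.1.two_dvd)
  have htQ : ((t : K) : G) ∈ Q' := ⟨(t : K), t.2, rfl⟩
  have ht2 : orderOf ((t : K) : G) = 2 := by rw [orderOf_coe, orderOf_coe, ht]
  have hnK : (n : G) ∈ K := by
    refine ((Invol.isStronglyEmbedded_iff hK.1 hK.2.1).1 hK) _ (t : K).2 ht2 n ?_
    have h := (mem_normalizer_iff.1 (inv_mem hn) ⟨_, hP htQ⟩).1 (mem_subgroupOf.2 htQ)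
    have h' : (n : G)⁻¹ * (t : K) * n ∈ Q' := by simpa [mem_subgroupOf] using h
    exact map_subtype_le _ h'
  have hT : IsPGroup 2 ↥((P : Subgroup G).subgroupOf K) := P.2.comap_of_injective _ K.subtype_injective
  have hle : (Q : Subgroup K) ≤ (P : Subgroup G).subgroupOf K := fun x hx => hP ⟨x, hx, rfl⟩
  refine hnQ (mem_subgroupOf.2 ⟨⟨(n : G), hnK⟩, ?_, rfl⟩)
  have hn' : (⟨(n : G), hnK⟩ : K) ∈ (P : Subgroup G).subgroupOf K := mem_subgroupOf.2 n.2
  rw [Q.3 hT hle] at hn'
  exact hn'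

/-- Every element of `S4` centralizing the normal four-group lies in it. -/
theorem s4_self_centralizing : ∀ x : Equiv.Perm (Fin 4),
    x * (Equiv.swap 0 1 * Equiv.swap 2 3) = Equiv.swap 0 1 * Equiv.swap 2 3 * x →
    x * (Equiv.swap 0 2 * Equiv.swap 1 3) = Equiv.swap 0 2 * Equiv.swap 1 3 * x →
    (x = 1 ∨ x = Equiv.swap 0 1 * Equiv.swap 2 3 ∨ x = Equiv.swap 0 2 * Equiv.swap 1 3 ∨
      x = Equiv.swap 0 3 * Equiv.swap 1 2) := by
  decide

/-- In a group with a maximal 2-local subgroup isomorphic to `S4` there is a four-group which is its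
own centralizer. -/
theorem exists_selfCentralizing_four {M : Subgroup G} (hM : Cfsg.IsMaximalTwoLocal M)
    (e : M ≃* Equiv.Perm (Fin 4)) :
    ∃ V : Subgroup G, Nat.card V = 4 ∧ (∀ v ∈ V, v * v = 1) ∧
      ∀ x : G, (∀ v ∈ V, Commute x v) → x ∈ V := by
  set V₀ := Block.s4Four.comap e.toMonoidHom with hV₀
  set V := V₀.map M.subtype with hV
  have hV4 : Nat.card V = 4 := by
    rw [hV, Subgroup.card_map_of_injective M.subtype_injective, ← Block.s4Four_card,
      ← Subgroup.card_map_of_injective (f := e.toMonoidHom) e.injective,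
      map_comap_eq_self_of_surjective e.surjective]
  have hV2 : ∀ v ∈ V, v * v = 1 := by
    rintro _ ⟨v, hv, rfl⟩
    have h := (Block.s4Four_facts.1 1 (e v) hv).2.1
    rw [← map_mul, map_eq_one_iff _ e.injective] at h
    rw [← map_mul, h, map_one]
  have hVp : IsPGroup 2 V := IsPGroup.of_card (n := 2) (by rw [hV4]; norm_num)
  have hVne : V ≠ ⊥ := fun h => by rw [h, Subgroup.card_bot] at hV4; omega
  haveI hn : V₀.Normal := by
    refine ⟨fun v hv g => ?_⟩
    show e (g * v * g⁻¹) ∈ Block.s4Four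
    rw [map_mul, map_mul, map_inv]
    exact (Block.s4Four_facts.1 (e g) (e v) hv).2.2
  have hMN : M ≤ normalizer (V : Set G) := fun g hg =>
    le_normalizer_map M.subtype ⟨⟨g, hg⟩, normalizer_eq_top (H := V₀) ▸ mem_top _, rfl⟩
  have heq := hM.2 _ ⟨V, hVp, hVne, rfl⟩ hMN
  refine ⟨V, hV4, hV2, fun x hx => ?_⟩
  have hxM : x ∈ M := heq ▸ centralizer_le_normalizer _ (mem_centralizer_iff.2 fun v hv => (hx v hv).eq.symm)
  refine ⟨⟨x, hxM⟩, ?_, rfl⟩
  have hc : ∀ p ∈ Block.s4Four, e ⟨x, hxM⟩ * p = p * e ⟨x, hxM⟩ := by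
    intro p hp
    obtain ⟨v, rfl⟩ := e.surjective p
    have h : (⟨x, hxM⟩ : M) * v = v * ⟨x, hxM⟩ := Subtype.ext (hx _ ⟨v, hp, rfl⟩).eq
    rw [← map_mul, ← map_mul, h]
  exact s4_self_centralizing _ (hc _ (Or.inr (Or.inl rfl))) (hc _ (Or.inr (Or.inr (Or.inl rfl))))

/-- A 2-group with a self-centralizing four-group is dihedral or semidihedral. -/
theorem dihedral_or_quasiDihedral {T : Type u} [Group T] [Finite T] (hT : IsPGroup 2 T) (A : Subgroup T)
    (hA : Nat.card A = 4) (hA2 : ∀ a ∈ A, a * a = 1) (hC : centralizer (A : Set T) = A) :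
    (∃ m : ℕ, 2 ≤ m ∧ Nonempty (T ≃* DihedralGroup m)) ∨ Cfsg.IsQuasiDihedral T := by
  haveI : Fact (Nat.Prime 2) := ⟨Nat.prime_two⟩
  by_cases hne : A = ⊤
  · refine Or.inl ⟨2, le_rfl, ?_⟩
    have hcard : Nat.card T = 4 := by rw [← Subgroup.card_top, ← hne, hA]
    haveI : Nontrivial T := Finite.one_lt_card_iff_nontrivial.1 (by omega)
    haveI : IsKleinFour T :=
      ⟨hcard, (Monoid.exponent_eq_prime_iff Nat.prime_two).2 fun g hg =>
        orderOf_eq_prime (by rw [pow_two]; exact hA2 g (hne ▸ mem_top g)) hg⟩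
    obtain ⟨e₀⟩ : Nonempty (T ≃ DihedralGroup 2) :=
      ⟨(Nat.equivFinOfCardPos (by omega)).trans ((finCongr (by
        rw [hcard, DihedralGroup.nat_card])).trans
          (Nat.equivFinOfCardPos (α := DihedralGroup 2) (by rw [DihedralGroup.nat_card]; norm_num)).symm)⟩
    exact ⟨IsKleinFour.mulEquiv (e₀.trans (Equiv.swap (e₀ 1) 1)) (by simp)⟩
  · exact Block.CentreFreeTwo.of_selfCentralizing hT A hA hA2 hC hne

/-- The trace on a normal subgroup of a Sylow subgroup of the group is a Sylow subgroup of it. -/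
theorem exists_sylow_inf (P : Sylow 2 G) (X : Subgroup G) [X.Normal] :
    ∃ Q : Sylow 2 X, (Q : Subgroup X) = (P : Subgroup G).subgroupOf X := by
  haveI : Fact (Nat.Prime 2) := ⟨Nat.prime_two⟩
  have hpg : IsPGroup 2 ↥((P : Subgroup G).subgroupOf X) := P.isPGroup'.comap_subtype
  exact ⟨hpg.toSylow (Grp.sylow_inf_normal_relIndex P X), rfl⟩

theorem map_omegaCenter_le (g : G) {S : Subgroup G} {x : G}
    (hx : x ∈ omegaCenter (S.map (MulAut.conj g).toMonoidHom)) : g⁻¹ * x * g ∈ omegaCenter S := by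
  obtain ⟨⟨y, hy, rfl⟩, hc, h2⟩ := mem_omegaCenter.1 hx
  have he : g⁻¹ * (MulAut.conj g).toMonoidHom y * g = y := by simp [mul_assoc]
  rw [he]
  refine mem_omegaCenter.2 ⟨hy, fun s hs => ?_, (MulAut.conj g).injective ?_⟩
  · exact (show Commute _ _ from hc _ ⟨s, hs, rfl⟩).of_map (MulAut.conj g).injective
  · rw [map_pow, map_one]
    exact h2

/-- The characteristic 2 case. -/
theorem charTwo_case (heven : Even (Nat.card G))
    (hN : ∀ L : Subgroup G, Cfsg.IsTwoLocal L → Group.IsSolvable L)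
    (hZ : ∀ S : Sylow 2 G, centralizer (omegaCenter (S : Subgroup G) : Set G) ≤
      normalizer ((S : Subgroup G) : Set G))
    (hO' : Cfsg.pPrimeCore 2 G = ⊥) (hO : Cfsg.pCore 2 G = ⊥) (S : Sylow 2 G)
    (hL : Cfsg.IsCharacteristicTwoType ↥(Cfsg.pResidual 2 G ⊔ omegaCenter (S : Subgroup G))) :
    (∃ M : Subgroup ↥(Cfsg.pResidual 2 G), Cfsg.IsStronglyEmbedded M) ∨
      ((∃ n : ℕ, 2 ≤ n ∧ Nonempty (↥((S : Subgroup G) ⊓ Cfsg.pResidual 2 G) ≃* DihedralGroup n)) ∨
        Cfsg.IsQuasiDihedral ↥((S : Subgroup G) ⊓ Cfsg.pResidual 2 G)) := by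
  classical
  haveI : Fact (Nat.Prime 2) := ⟨Nat.prime_two⟩
  set H := Cfsg.pResidual 2 G with hH
  set X := H ⊔ omegaCenter (S : Subgroup G) with hX
  haveI hHn : H.Normal := normal_of_characteristic _
  have hsup : H ⊔ (S : Subgroup G) = ⊤ := Invol.pResidual_sup_sylow S
  have hHX : H ≤ X := le_sup_left
  have hZX : omegaCenter (S : Subgroup G) ≤ X := le_sup_right
  haveI hXn : X.Normal := by
    rw [← normalizer_eq_top_iff, eq_top_iff, ← hsup]
    refine sup_le (hHX.trans le_normalizer) fun s hs => mem_normalizer_of_conj_eq ?_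
    rw [hX, Subgroup.map_sup]
    refine sup_le ?_ ?_
    · rintro _ ⟨y, hy, rfl⟩
      exact mem_sup_left (hHn.conj_mem y hy s)
    · rintro _ ⟨y, hy, rfl⟩
      show s * y * s⁻¹ ∈ X
      rw [← ((mem_omegaCenter.1 hy).2.1 s hs).eq, mul_inv_cancel_right]
      exact hZX hy
  -- `G` itself is not a 2-group
  have hH1 : H ≠ ⊥ := by
    intro hH1
    rw [hH1, bot_sup_eq] at hsup
    have hn : (S : Subgroup G).Normal := hsup ▸ inferInstance
    have h2 := Grp.le_pCore hn S.2
    rw [hO, le_bot_iff, hsup] at h2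
    have h3 : Nat.card G = 1 := by rw [← Subgroup.card_top, h2, Subgroup.card_bot]
    rw [h3] at heven
    exact absurd heven (by decide)
  have hO₂ : Cfsg.pCore 2 X = ⊥ := by
    refine (map_eq_bot_iff_of_injective _ X.subtype_injective).1 (le_bot_iff.1 ?_)
    rw [← hO]
    exact Grp.pCore_map_le X
  have hN₁ : ∀ L : Subgroup X, Cfsg.IsTwoLocal L → Group.IsSolvable L := by
    rintro L ⟨T, hT, hT1, rfl⟩
    haveI := hN _ ⟨T.map X.subtype, hT.map _, fun h => hT1
      ((map_eq_bot_iff_of_injective _ X.subtype_injective).1 h), rfl⟩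
    let f : ↥(normalizer (T : Set X)) →* ↥(normalizer ((T.map X.subtype : Subgroup G) : Set G)) :=
      (X.subtype.comp (normalizer (T : Set X)).subtype).codRestrict _ fun c =>
        le_normalizer_map X.subtype ⟨(c : X), c.2, rfl⟩
    exact Group.isSolvable_of_isSolvable_injective (f := f) fun a b h =>
      Subtype.ext (Subtype.ext (congrArg (fun x : ↥(normalizer ((T.map X.subtype : Subgroup G) : Set G)) =>
        (x : G)) h))
  have hZ₁ : ∀ P : Sylow 2 X,
      centralizer {z : X | z ∈ (P : Subgroup X) ∧ z ^ 2 = 1 ∧ ∀ s ∈ (P : Subgroup X), s * z = z * s} ≤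
        normalizer ((P : Subgroup X) : Set X) := by
    intro P c hc
    obtain ⟨P', hP'⟩ := (P.2.map X.subtype).exists_le_sylow
    obtain ⟨g, hg⟩ := MulAction.exists_smul_eq G S P'
    have hP'S : (P' : Subgroup G) = (S : Subgroup G).map (MulAut.conj g).toMonoidHom := by
      rw [← hg, Sylow.coe_subgroup_smul]
      rfl
    have hPeq : ∀ x : X, x ∈ (P : Subgroup X) ↔ (x : G) ∈ (P' : Subgroup G) := by
      have h := P.3 (P'.2.comap_of_injective X.subtype X.subtype_injective) (fun x hx => hP' ⟨x, hx, rfl⟩)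
      exact fun x => (SetLike.ext_iff.1 h x).symm
    have hcG : (c : G) ∈ normalizer ((P' : Subgroup G) : Set G) := by
      refine hZ P' (mem_centralizer_iff.2 fun z hz => ?_)
      obtain ⟨hzP, hzc, hz2⟩ := mem_omegaCenter.1 hz
      have hzX : z ∈ X := by
        have h1 : g⁻¹ * z * g ∈ X := hZX (map_omegaCenter_le g (hP'S ▸ hz))
        simpa [mul_assoc] using hXn.conj_mem _ h1 g
      exact congrArg Subtype.val (mem_centralizer_iff.1 hc ⟨z, hzX⟩ ⟨(hPeq _).2 hzP, Subtype.ext hz2,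
        fun s hs => Subtype.ext (hzc _ ((hPeq s).1 hs)).eq.symm⟩)
    refine mem_normalizer_iff.2 fun x => ?_
    rw [hPeq, hPeq]
    exact mem_normalizer_iff.1 hcG (x : G)
  set H₀ := closure {g : X | Odd (orderOf g)} with hH₀
  have hH₀iff : ∀ x : X, x ∈ H₀ ↔ (x : G) ∈ H := by
    have h1 : H₀.map X.subtype = H := by
      rw [hH₀, MonoidHom.map_closure]
      refine congrArg Subgroup.closure (Set.ext fun y => ⟨?_, fun hy => ?_⟩)
      · rintro ⟨x, hx, rfl⟩
        show Nat.Coprime (orderOf (x : G)) 2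
        rw [orderOf_coe]
        exact Nat.coprime_two_right.2 hx
      · refine ⟨⟨y, hHX (Invol.mem_pResidual hy)⟩, ?_, rfl⟩
        show Odd (orderOf _)
        rw [orderOf_mk]
        exact Nat.coprime_two_right.1 hy
    intro x
    rw [← h1]
    exact ⟨fun h => ⟨x, h, rfl⟩, fun ⟨y, hy, he⟩ => Subtype.ext (show (y : G) = (x : G) from he) ▸ hy⟩
  rcases Cfsg.Agent.S0518.result hL hO₂ hN₁ hZ₁ H₀ hH₀ with ⟨K, hK⟩ | ⟨M₁, -, -, hM₁, -, ⟨e⟩, -, -⟩
  · -- a strongly embedded subgroup of `X`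
    left
    obtain ⟨P, hPK⟩ := exists_sylow_le hK
    set HX := H.subgroupOf X with hHXdef
    haveI : HX.Normal := by rw [hHXdef]; infer_instance
    have hidx2 : ∃ k, HX.index = 2 ^ k := by
      obtain ⟨k, hk⟩ := (Invol.isPGroup_quotient_pResidual (p := 2) (G := G)).exists_card_eq
      rw [← Subgroup.index_eq_card] at hk
      obtain ⟨j, -, hj⟩ := (Nat.dvd_prime_pow Nat.prime_two).1 (hk ▸ relIndex_dvd_index_of_normal H X :
        H.relIndex X ∣ 2 ^ k)
      exact ⟨j, hj⟩
    have hgen : HX ⊔ (P : Subgroup X) = ⊤ := by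
      obtain ⟨k, hk⟩ := hidx2
      refine index_eq_one.1 (Nat.eq_one_of_dvd_coprimes
        (Nat.Coprime.pow_left k ((Nat.Prime.coprime_iff_not_dvd Nat.prime_two).2 P.not_dvd_index))
        (hk ▸ index_dvd_of_le le_sup_left) (index_dvd_of_le le_sup_right))
    have hPH : ¬ 2 ∣ (P : Subgroup X).relIndex HX := Grp.sylow_inf_normal_relIndex P HX
    have hHeven : 2 ∣ Nat.card HX := by
      rw [Nat.card_congr (subgroupOfEquivOfLe hHX).toEquiv]
      by_contra h
      exact hH1 (le_bot_iff.1 (hO' ▸ Grp.le_pPrimeCore inferInstance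
        (Nat.Prime.coprime_iff_not_dvd Nat.prime_two |>.2 h).symm))
    have heven' : Even (Nat.card ↥(K ⊓ HX)) := by
      refine even_iff_two_dvd.2 (dvd_trans ?_ (card_dvd_of_le (inf_le_inf_right HX hPK)))
      have h1 : Nat.card ↥((P : Subgroup X) ⊓ HX) * (P : Subgroup X).relIndex HX = Nat.card HX := by
        rw [← inf_relIndex_right, ← relIndex_bot_left, ← relIndex_bot_left,
          relIndex_mul_relIndex _ _ _ bot_le inf_le_right]
      exact (Nat.Prime.dvd_mul Nat.prime_two).1 (h1 ▸ hHeven) |>.resolve_right hPH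
    obtain ⟨L, hL'⟩ := exists_stronglyEmbedded_subgroupOf hK HX heven'
      fun hle => hK.1 (eq_top_iff.2 (hgen.ge.trans (sup_le hle hPK)))
    let φ : ↥HX ≃* ↥H := subgroupOfEquivOfLe hHX
    refine ⟨L.map φ.toMonoidHom, ?_⟩
    have hne : L.map φ.toMonoidHom ≠ ⊤ := fun h => hL'.1 (by
      rw [← comap_map_eq_self_of_injective (f := φ.toMonoidHom) φ.injective L, h, comap_top])
    have hev : Even (Nat.card ↥(L.map φ.toMonoidHom)) := by
      rw [Subgroup.card_map_of_injective (f := φ.toMonoidHom) φ.injective]; exact hL'.2.1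
    refine (Invol.isStronglyEmbedded_iff hne hev).2 fun t ht ht2 g hg => ?_
    obtain ⟨t', ht', rfl⟩ := ht
    obtain ⟨u, hu, hue⟩ := hg
    refine ⟨φ.symm g, (Invol.isStronglyEmbedded_iff hL'.1 hL'.2.1).1 hL' t' ht' ?_ _ ?_, φ.apply_symm_apply g⟩
    · rw [← ht2]; exact (orderOf_injective φ.toMonoidHom φ.injective t').symm
    · have : u = (φ.symm g)⁻¹ * t' * φ.symm g := φ.injective (by
        rw [map_mul, map_mul, map_inv, φ.apply_symm_apply]; exact hue)
      exact this ▸ hu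
  · -- the two maximal 2-local subgroups of type `S4`
    right
    obtain ⟨V, hV4, hV2, hVc⟩ := exists_selfCentralizing_four hM₁ e
    set j : H₀ →* G := X.subtype.comp H₀.subtype with hj
    have hjinj : Function.Injective j := fun a b h => Subtype.ext (Subtype.ext h)
    set V' := V.map j with hV'
    have hV'H : V' ≤ H := by
      rintro _ ⟨v, -, rfl⟩
      exact (hH₀iff _).1 v.2
    have hV'4 : Nat.card V' = 4 := by rw [hV', Subgroup.card_map_of_injective hjinj, hV4]
    have hV'2 : ∀ v ∈ V', v * v = 1 := by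
      rintro _ ⟨v, hv, rfl⟩
      rw [← map_mul, hV2 v hv, map_one]
    have hV'c : ∀ x ∈ H, (∀ v ∈ V', Commute x v) → x ∈ V' := by
      intro x hx hxv
      let y : H₀ := ⟨⟨x, hHX hx⟩, (hH₀iff _).2 hx⟩
      refine ⟨y, hVc y fun v hv => ?_, rfl⟩
      exact (show Commute (j y) (j v) from hxv _ ⟨v, hv, rfl⟩).of_map hjinj
    obtain ⟨m, hm, hmV⟩ := Invol.exists_residual_conj_subset_sylow
      (IsPGroup.of_card (n := 2) (by rw [hV'4]; norm_num) : IsPGroup 2 V') S
    set A := V'.map (MulAut.conj m).toMonoidHom with hA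
    have hAR : A ≤ (S : Subgroup G) ⊓ H := by
      rintro _ ⟨v, hv, rfl⟩
      exact ⟨hmV v hv, hHn.conj_mem v (hV'H hv) m⟩
    refine dihedral_or_quasiDihedral (T := ↥((S : Subgroup G) ⊓ H)) (S.2.to_le inf_le_left)
      (A.subgroupOf _) ?_ ?_ ?_
    · rw [Nat.card_congr (subgroupOfEquivOfLe hAR).toEquiv, hA,
        Subgroup.card_map_of_injective (MulAut.conj m).injective, hV'4]
    · rintro a ⟨v, hv, hva⟩
      refine Subtype.ext ?_
      show (a : G) * (a : G) = 1
      have hva' : (MulAut.conj m).toMonoidHom v = (a : G) := hva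
      rw [← hva', ← map_mul, hV'2 v hv, map_one]
    · refine le_antisymm (fun (r : ↥((S : Subgroup G) ⊓ H)) hr => ?_) fun a ha => ?_
      · refine mem_subgroupOf.2 ⟨m⁻¹ * r * m, ?_, by simp [mul_assoc]⟩
        refine hV'c _ (by simpa using hHn.conj_mem _ r.2.2 m⁻¹) fun v hv => ?_
        have hvA : (MulAut.conj m).toMonoidHom v ∈ A := ⟨v, hv, rfl⟩
        have h := (show Commute (r : G) _ from
          (congrArg Subtype.val (mem_centralizer_iff.1 hr ⟨_, hAR hvA⟩ hvA)).symm).map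
          (MulAut.conj m⁻¹).toMonoidHom
        simpa [mul_assoc] using h
      · refine mem_centralizer_iff.2 fun b hb => Subtype.ext ?_
        obtain ⟨v, hv, hvb⟩ := hb
        obtain ⟨w, hw, hwa⟩ := ha
        show (b : G) * (a : G) = (a : G) * (b : G)
        have hvb' : (MulAut.conj m).toMonoidHom v = (b : G) := hvb
        have hwa' : (MulAut.conj m).toMonoidHom w = (a : G) := hwa
        rw [← hvb', ← hwa', ← map_mul, ← map_mul]
        congr 1
        have hvw := hV'2 _ (mul_mem hv hw)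
        calc v * w = v⁻¹ * w⁻¹ := by
              rw [inv_eq_of_mul_eq_one_right (hV'2 v hv), inv_eq_of_mul_eq_one_right (hV'2 w hw)]
          _ = (w * v)⁻¹ := (mul_inv_rev _ _).symm
          _ = w * v := inv_eq_of_mul_eq_one_right (hV'2 _ (mul_mem hw hv))

end Cfsg.Agent.Grp.ZN
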