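import Cfsg.Agent.Lib.Grp.ZNGroups.Basic
import Cfsg.Agent.Lib.Recog.MaxClassFacts
import Cfsg.Agent.Lib.Transfer.MaxClass

/-!
# Centralizers of involutions outside a subgroup of index 2 of a Sylow 2-subgroup
-/

set_option autoImplicit false
set_option linter.unusedSectionVars false

namespace Cfsg.Agent.Grp.ZN

open Cfsg Subgroup ConstrainedCores

universe u

variable {G : Type u} [Group G] [Finite G]

/-- The Sylow subgroup `S` has an elementary abelian subgroup of order at least 8. -/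
def HasEight (S : Subgroup G) : Prop :=
  ∃ E : Subgroup G, E ≤ S ∧ Cfsg.IsElementaryAbelian 2 E ∧ 8 ≤ Nat.card E

/-- `S` has a cyclic subgroup of index 2. -/
def HasCyclicTwo (S : Subgroup G) : Prop :=
  ∃ K : Subgroup G, K ≤ S ∧ IsCyclic K ∧ K.relIndex S = 2

theorem mul_mem_iff_of_two {S C : Subgroup G} (h2 : C.relIndex S = 2) {a b : G} (ha : a ∈ S) (hb : b ∈ S) :
    a * b ∈ C ↔ (a ∈ C ↔ b ∈ C) :=
  mul_mem_iff_of_index_two (H := C.subgroupOf S) h2 (a := ⟨a, ha⟩) (b := ⟨b, hb⟩)

theorem sq_mem_of_two {S C : Subgroup G} (h2 : C.relIndex S = 2) {a : G} (ha : a ∈ S) : a ^ 2 ∈ C := by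
  rw [pow_two]; exact (mul_mem_iff_of_two h2 ha ha).2 Iff.rfl

theorem exists_notMem_of_two {S C : Subgroup G} (h2 : C.relIndex S = 2) : ∃ a ∈ S, a ∉ C := by
  by_contra h
  push Not at h
  have := relIndex_eq_one.2 (fun a ha => h a ha : S ≤ C)
  omega

/-- A cyclic subgroup of index 2 leaves no room for an elementary abelian subgroup of order 8. -/
theorem HasCyclicTwo.not_hasEight {S : Subgroup G} (h : HasCyclicTwo S) : ¬ HasEight S := by
  rintro ⟨E, hES, hE, h8⟩
  obtain ⟨K, -, hKc, hK2⟩ := h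
  haveI := hKc
  have h1 : K.relIndex E ≤ 2 := hK2 ▸ relIndex_le_of_le_right hES (by omega)
  haveI : IsCyclic ↥(K ⊓ E) := isCyclic_of_injective _ (inclusion_injective (inf_le_left : K ⊓ E ≤ K))
  obtain ⟨g, hg⟩ := IsCyclic.exists_generator (α := ↥(K ⊓ E))
  have h2 : Nat.card ↥(K ⊓ E) ≤ 2 := by
    rw [← orderOf_eq_card_of_forall_mem_zpowers hg]
    exact Nat.le_of_dvd two_pos (orderOf_dvd_of_pow_eq_one (Subtype.ext (hE.2 g g.2.2)))
  have h3 : Nat.card ↥(K ⊓ E) * K.relIndex E = Nat.card E := by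
    rw [← inf_relIndex_right, ← relIndex_bot_left, ← relIndex_bot_left,
      relIndex_mul_relIndex _ _ _ bot_le inf_le_right]
  have h4 := Nat.mul_le_mul h2 h1
  omega

/-- A 2-group that is the whole of a group with a cyclic subgroup of index 2. -/
theorem hasCyclicTwo_of_zpowers {S : Subgroup G} (a : S) {n : ℕ} (ha : orderOf a = 2 ^ n)
    (hS : Nat.card S = 2 ^ (n + 1)) : HasCyclicTwo S := by
  refine ⟨(zpowers a).map S.subtype, map_subtype_le _,
    isCyclic_of_surjective _ (MonoidHom.subgroupMap_surjective S.subtype (zpowers a)), ?_⟩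
  rw [relIndex, subgroupOf, comap_map_eq_self_of_injective S.subtype_injective]
  have := (zpowers a).card_mul_index
  rw [Nat.card_zpowers, ha, hS, pow_succ] at this
  exact Nat.eq_of_mul_eq_mul_left (by positivity) this

/-- A 2-subgroup centralizing `v` and containing `S ⊓ C(v)` is equal to it if every element normalizing
`S ⊓ C(v)` fixes `z`. -/
theorem centralizer_max {S : Sylow 2 G} {z v : G}
    (hCz : centralizer ({z} : Set G) ≤ normalizer ((S : Subgroup G) : Set G))
    (hfix : ∀ n ∈ normalizer (((S : Subgroup G) ⊓ centralizer ({v} : Set G) : Subgroup G) : Set G),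
      Commute n z)
    (T : Subgroup G) (hT : IsPGroup 2 T) (hQT : (S : Subgroup G) ⊓ centralizer ({v} : Set G) ≤ T)
    (hTC : T ≤ centralizer ({v} : Set G)) : T ≤ (S : Subgroup G) ⊓ centralizer ({v} : Set G) := by
  haveI : Fact (Nat.Prime 2) := ⟨Nat.prime_two⟩
  set Q := (S : Subgroup G) ⊓ centralizer ({v} : Set G)
  by_contra hTQ
  haveI := hT.isNilpotent
  have hlt : Q.subgroupOf T < ⊤ := lt_top_iff_ne_top.2 fun e => hTQ (subgroupOf_eq_top.1 e)
  obtain ⟨n, hn, hnQ⟩ := SetLike.exists_of_lt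
    (Group.normalizerCondition_of_isNilpotent (G := T) _ hlt)
  have hnQ' : (n : G) ∈ normalizer (Q : Set G) := by
    refine mem_normalizer_iff.2 fun x => ?_
    constructor
    · intro hx
      exact (mem_normalizer_iff.1 hn ⟨x, hQT hx⟩).1 hx
    · intro hx
      have hxT : x ∈ T := by
        have := mul_mem (mul_mem (inv_mem n.2) (hQT hx)) n.2
        simpa [mul_assoc] using this
      exact (mem_normalizer_iff.1 hn ⟨x, hxT⟩).2 hx
  have hnS : (n : G) ∈ (S : Subgroup G) := mem_sylow_of_normalizer S (hT.to_le (zpowers_le.2 n.2))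
    (hCz (mem_centralizer_singleton_iff.2 (hfix _ hnQ').eq))
  exact hnQ (mem_subgroupOf.2 ⟨hnS, hTC n.2⟩)

/-- The centralizer in `S` of an involution outside a subgroup `C` of index 2 whose part in `C` has a
single involution: it is maximal among the 2-subgroups centralizing that involution, unless `S` has a
cyclic subgroup of index 2. -/
theorem cyclicTwo_or_max {S : Sylow 2 G} {C : Subgroup G} (h2 : C.relIndex (S : Subgroup G) = 2) {z v : G}
    (hz : orderOf z = 2) (hzC : z ∈ C) (hzS : z ∈ (S : Subgroup G))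
    (hzc : ∀ s ∈ (S : Subgroup G), Commute z s)
    (hCz : centralizer ({z} : Set G) ≤ normalizer ((S : Subgroup G) : Set G))
    (hvS : v ∈ (S : Subgroup G)) (hv : orderOf v = 2) (hvC : v ∉ C)
    (hD : ∀ w ∈ (S : Subgroup G), w ∈ C → w ^ 2 = 1 → Commute w v → w ∈ zpowers z) :
    HasCyclicTwo (S : Subgroup G) ∨
      ∀ T : Subgroup G, IsPGroup 2 T → (S : Subgroup G) ⊓ centralizer ({v} : Set G) ≤ T →
        T ≤ centralizer ({v} : Set G) → T ≤ (S : Subgroup G) ⊓ centralizer ({v} : Set G) := by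
  classical
  haveI : Fact (Nat.Prime 2) := ⟨Nat.prime_two⟩
  have hz1 : z ≠ 1 := Invol.ne_one_of_orderOf_two hz
  have hzsq : z ^ 2 = 1 := by rw [← hz]; exact pow_orderOf_eq_one z
  have hv2 : v ^ 2 = 1 := by rw [← hv]; exact pow_orderOf_eq_one v
  have hzv : z ∈ centralizer ({v} : Set G) := mem_centralizer_singleton_iff.2 (hzc v hvS).eq
  have hone : ∀ x ∈ zpowers z, x = 1 ∨ x = z := fun x hx => by
    obtain ⟨i, rfl⟩ := mem_zpowers_iff.1 hx
    rcases Int.even_or_odd' i with ⟨j, rfl | rfl⟩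
    · left; rw [zpow_mul, zpow_two, Invol.mul_self_of_orderOf_two hz, one_zpow]
    · right; rw [zpow_add, zpow_mul, zpow_two, Invol.mul_self_of_orderOf_two hz, one_zpow, one_mul, zpow_one]
  by_cases hy : ∃ y ∈ (S : Subgroup G) ⊓ centralizer ({v} : Set G), y ^ 2 = z
  · refine Or.inr fun T hT hQT hTC => centralizer_max hCz (fun n hn => ?_) T hT hQT hTC
    obtain ⟨y, hy, hyz⟩ := hy
    have hy' := (mem_normalizer_iff.1 hn y).1 hy
    have he : n * z * n⁻¹ = (n * y * n⁻¹) ^ 2 := by rw [← hyz, conj_pow]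
    have h3 : n * z * n⁻¹ ∈ zpowers z := by
      refine hD _ ?_ ?_ ?_ ?_
      · rw [he]; exact pow_mem hy'.1 2
      · rw [he]; exact sq_mem_of_two h2 hy'.1
      · rw [conj_pow, hzsq, mul_one, mul_inv_cancel]
      · rw [he]; exact (show Commute _ v from mem_centralizer_singleton_iff.1 hy'.2).pow_left 2
    rcases hone _ h3 with h | h
    · exact absurd (conj_eq_one_iff.1 h) hz1
    · exact mul_inv_eq_iff_eq_mul.1 h
  push Not at hy
  left
  -- now `S ⊓ C(v)` is a four-group
  have hexp : ∀ x ∈ (S : Subgroup G), x ∈ C → Commute x v → x ^ 2 = 1 := by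
    intro x hxS hxC hxv
    by_contra hx1
    obtain ⟨k, hk⟩ := IsPGroup.iff_orderOf.1 S.2 ⟨x, hxS⟩
    rw [orderOf_mk] at hk
    match k, hk with
    | 0, hk => exact hx1 (by rw [pow_zero, orderOf_eq_one_iff] at hk; rw [hk, one_pow])
    | 1, hk => exact hx1 (by rw [show (2 : ℕ) = 2 ^ 1 from rfl, ← hk, pow_orderOf_eq_one])
    | k + 2, hk =>
      have h4 : x ^ 2 ^ (k + 1) ∈ zpowers z := hD _ (pow_mem hxS _) (pow_mem hxC _)
        (by rw [← pow_mul, ← pow_succ, ← hk, pow_orderOf_eq_one]) (hxv.pow_left _)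
      rcases hone _ h4 with h | h
      · have := orderOf_dvd_of_pow_eq_one h
        rw [hk, Nat.pow_dvd_pow_iff_le_right (by norm_num)] at this
        omega
      · exact hy (x ^ 2 ^ k) ⟨pow_mem hxS _, mem_centralizer_singleton_iff.2 (hxv.pow_left _).eq⟩
          (by rw [← pow_mul, ← pow_succ, h])
  set A := zpowers z ⊔ zpowers v with hA
  have hvz : v ∉ zpowers z := fun h => by
    rcases hone v h with rfl | rfl
    · exact absurd hv (by rw [orderOf_one]; norm_num)
    · exact hvC hzC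
  have hQA : ∀ x ∈ (S : Subgroup G), Commute x v → x ∈ A := by
    intro x hxS hxv
    by_cases hxC : x ∈ C
    · exact mem_sup_left (hD x hxS hxC (hexp x hxS hxC hxv) hxv)
    · have hxvC : x * v ∈ C := (mul_mem_iff_of_two h2 hxS hvS).2 (iff_of_false hxC hvC)
      have hc : Commute (x * v) v := hxv.mul_left (Commute.refl v)
      have h5 := hD _ (mul_mem hxS hvS) hxvC (hexp _ (mul_mem hxS hvS) hxvC hc) hc
      have h6 : x * v * v ∈ A := mul_mem (mem_sup_left h5) (mem_sup_right (mem_zpowers v))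
      rwa [mul_assoc, ← pow_two, hv2, mul_one] at h6
  have hAS : A ≤ (S : Subgroup G) := pair_le hzS hvS
  have hAe := elemAb_pair hzsq hv2 (hzc v hvS)
  by_cases hAtop : (S : Subgroup G) ≤ A
  · -- then `C ⊓ S` has order 2
    refine ⟨zpowers z, zpowers_le.2 hzS, inferInstance, ?_⟩
    have hCz2 : C.subgroupOf (S : Subgroup G) = (zpowers z).subgroupOf (S : Subgroup G) := by
      ext x
      refine ⟨fun hx => ?_, fun hx => (zpowers_le.2 hzC) hx⟩
      have hxv : Commute (x : G) v := Grp.elemAb_comm hAe _ (hAtop x.2) _ (mem_sup_right (mem_zpowers v))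
      exact hD x x.2 hx (hexp x x.2 hx hxv) hxv
    rw [relIndex, ← hCz2]
    exact h2
  -- self-centralizing four subgroup
  set A₁ := A.subgroupOf (S : Subgroup G)
  have hA4 : Nat.card A₁ = 4 := by
    rw [Nat.card_congr (subgroupOfEquivOfLe hAS).toEquiv]
    refine le_antisymm ?_ (four_le_card_sup hzsq hv2 (hzc v hvS) hz1 hvz)
    have hn : zpowers z ≤ normalizer (zpowers v : Set G) := fun a ha =>
      centralizer_le_normalizer _ (mem_centralizer_iff.2 fun b hb => by
        obtain ⟨i, rfl⟩ := mem_zpowers_iff.1 ha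
        obtain ⟨j, rfl⟩ := mem_zpowers_iff.1 hb
        exact ((hzc v hvS).zpow_zpow i j).eq.symm)
    refine le_trans (Nat.le_of_dvd (Nat.mul_pos Nat.card_pos Nat.card_pos) (Grp.card_sup_dvd_mul hn))
      (le_of_eq ?_)
    rw [Nat.card_zpowers, Nat.card_zpowers, hz, hv]
  have hAC : centralizer (A₁ : Set (S : Subgroup G)) = A₁ := by
    refine le_antisymm (fun (x : (S : Subgroup G)) hx => mem_subgroupOf.2 (hQA x x.2 ?_))
      fun (x : (S : Subgroup G)) hx => ?_
    · exact (congrArg Subtype.val (mem_centralizer_iff.1 hx ⟨v, hvS⟩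
        (mem_subgroupOf.2 (mem_sup_right (mem_zpowers v))))).symm
    · exact mem_centralizer_iff.2 fun y hy => Subtype.ext (Grp.elemAb_comm hAe _ hy _ hx)
  obtain ⟨n, hn⟩ := IsPGroup.iff_card.1 S.2
  have h8 : 3 ≤ n := by
    by_contra h
    have h1 : 2 ^ n ≤ 2 ^ 2 := Nat.pow_le_pow_right two_pos (by omega)
    exact hAtop (subgroupOf_eq_top.1 (Subgroup.eq_top_of_card_eq A₁
      (le_antisymm (Subgroup.card_le_card_group A₁) (by rw [hA4, hn]; omega))))
  have hcl := Transfer.MaxClass.class_of_selfCentralizing n hn A₁ (by rw [hA4]; norm_num) hAC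
  obtain ⟨a, b, h, -⟩ :=
    MaxClass.exists_shape h8 hn (MaxClass.index_of_class h8 hn hcl.ge)
  exact hasCyclicTwo_of_zpowers a h.ord (by rw [hn]; congr 1; omega)

end Cfsg.Agent.Grp.ZN
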