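import Cfsg.Agent.Lib.Grp.ZNGroups.RankTwo
import Cfsg.Agent.Lib.Invol.PResidual

/-!
# Groups with solvable centralizers of involutions in which `C(Ω₁Z(S))` normalizes `S`
-/

set_option autoImplicit false
set_option linter.unusedSectionVars false

namespace Cfsg.Agent.Grp.ZN

open Cfsg Subgroup ConstrainedCores

universe u

variable {G : Type u} [Group G] [Finite G]

theorem SolvCent.subgroup (hC : SolvCent G) (X : Subgroup G) : SolvCent ↥X := fun t ht => by
  haveI := hC (t : G) (by rw [orderOf_coe, ht])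
  let f : ↥(centralizer ({t} : Set X)) →* ↥(centralizer ({(t : G)} : Set G)) :=
    (X.subtype.comp (centralizer ({t} : Set X)).subtype).codRestrict _ fun c =>
      mem_centralizer_singleton_iff.2 (congrArg Subtype.val (mem_centralizer_singleton_iff.1 c.2))
  exact Group.isSolvable_of_isSolvable_injective (f := f) fun a b h =>
    Subtype.ext (Subtype.ext (congrArg (fun x : ↥(centralizer ({(t : G)} : Set G)) => (x : G)) h))

/-- Trivial cores pass to normal subgroups. -/
theorem core_normal_eq_bot (X : Subgroup G) [hX : X.Normal] (h : ∀ t : G, orderOf t = 2 → core t = ⊥)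
    (t : X) (ht : orderOf t = 2) : core t = ⊥ := by
  have hle : (core t).map X.subtype ≤ core (t : G) := by
    refine Grp.le_centralizerPPrimeCore ?_ ?_ ?_
    · rintro _ ⟨y, hy, rfl⟩
      exact congrArg Subtype.val (Grp.centralizerPPrimeCore_commute hy)
    · intro c hc
      -- conjugation by `c` as an automorphism of `X` fixing `t`
      rintro _ ⟨y, hy, rfl⟩
      let φ : X ≃* X := MulAut.conjNormal c
      have hφt : φ t = t := Subtype.ext (by
        show c * (t : G) * c⁻¹ = t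
        exact mul_inv_eq_iff_eq_mul.2 hc)
      refine ⟨φ y, ?_, rfl⟩
      have key : (core t).map φ.toMonoidHom ≤ core (φ t) := by
        refine Grp.le_centralizerPPrimeCore ?_ ?_ ?_
        · rintro _ ⟨w, hw, rfl⟩
          exact ((show Commute w t from Grp.centralizerPPrimeCore_commute hw).map φ.toMonoidHom).eq
        · rintro d hd _ ⟨w, hw, rfl⟩
          have hd' : Commute (φ.symm d) t := by
            have := (show Commute d (φ t) from hd).map φ.symm.toMonoidHom
            simpa using this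
          exact ⟨_, Grp.centralizerPPrimeCore_conj hd'.eq hw, by simp⟩
        · rw [← Nat.card_congr ((core t).equivMapOfInjective φ.toMonoidHom φ.injective).toEquiv]
          exact core_coprime t
      have h2 := key ⟨y, hy, rfl⟩
      rwa [hφt] at h2
    · rw [Subgroup.card_map_of_injective X.subtype_injective]
      exact core_coprime t
  rw [h (t : G) (by rw [orderOf_coe, ht]), le_bot_iff] at hle
  exact (map_eq_bot_iff_of_injective _ X.subtype_injective).1 hle

/-- The case `O_{2'}(G) = 1 = O₂(G)` of groups in which the centralizers of involutions are solvable and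
`C(Ω₁Z(S)) ≤ N(S)`. -/
theorem main (heven : Even (Nat.card G)) (hC : SolvCent G)
    (hZ : ∀ S : Sylow 2 G, centralizer (omegaCenter (S : Subgroup G) : Set G) ≤
      normalizer ((S : Subgroup G) : Set G))
    (hO' : Cfsg.pPrimeCore 2 G = ⊥) (hO : Cfsg.pCore 2 G = ⊥) (S : Sylow 2 G) :
    (∃ M : Subgroup ↥(Cfsg.pResidual 2 G), Cfsg.IsStronglyEmbedded M) ∨
      (Nat.card ↥(omegaCenter (S : Subgroup G) ⊓ Cfsg.pResidual 2 G) = 2 ∧
        ∀ h ∈ Cfsg.pResidual 2 G, ∀ z ∈ omegaCenter (S : Subgroup G) ⊓ Cfsg.pResidual 2 G,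
          h * z * h⁻¹ ∈ (S : Subgroup G) → h * z * h⁻¹ ∈ omegaCenter (S : Subgroup G)) ∨
      (Nat.card ↥(omegaCenter (S : Subgroup G)) = 4 ∧
        Cfsg.omegaOne 2 ((S : Subgroup G) ⊓ Cfsg.pResidual 2 G) = omegaCenter (S : Subgroup G)) ∨
      Cfsg.IsCharacteristicTwoType ↥(Cfsg.pResidual 2 G ⊔ omegaCenter (S : Subgroup G)) := by
  classical
  haveI : Fact (Nat.Prime 2) := ⟨Nat.prime_two⟩
  set H := Cfsg.pResidual 2 G with hH
  haveI hHn : H.Normal := normal_of_characteristic _
  set Z := omegaCenter (S : Subgroup G) with hZdef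
  have hcon := localConstrained hC
  have hZS : Z ≤ (S : Subgroup G) := fun x hx => (mem_omegaCenter.1 hx).1
  set R := (S : Subgroup G) ⊓ H with hR
  have hsup : H ⊔ (S : Subgroup G) = ⊤ := Invol.pResidual_sup_sylow S
  have hRidx : ¬ 2 ∣ (S : Subgroup G).relIndex H := Grp.sylow_inf_normal_relIndex S H
  have hR1 : R ≠ ⊥ := by
    intro hR1
    have h1 : (S : Subgroup G).relIndex H = Nat.card H := by
      rw [← inf_relIndex_right, ← hR, hR1, relIndex_bot_left]
    rw [h1] at hRidx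
    have hH1 : H = ⊥ := le_bot_iff.1 (hO' ▸ Grp.le_pPrimeCore inferInstance
      (Nat.Prime.coprime_iff_not_dvd Nat.prime_two |>.2 hRidx).symm)
    rw [hH1, bot_sup_eq] at hsup
    have hn : (S : Subgroup G).Normal := hsup ▸ inferInstance
    have h2 := Grp.le_pCore hn S.2
    rw [hO, le_bot_iff, hsup] at h2
    have h3 : Nat.card G = 1 := by rw [← Subgroup.card_top, h2, Subgroup.card_bot]
    rw [h3] at heven
    exact absurd heven (by decide)
  have hReven : Even (Nat.card R) := by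
    obtain ⟨k, hk0, hk⟩ := (S.2.to_le (inf_le_left : R ≤ _)).nontrivial_iff_card.1
      ((Subgroup.nontrivial_iff_ne_bot R).2 hR1)
    exact hk ▸ (even_iff_two_dvd.2 (dvd_pow_self 2 hk0.ne'))
  -- the two conclusions of the dichotomy in `G`
  have hfromG : Dichotomy S → (∃ M : Subgroup H, Cfsg.IsStronglyEmbedded M) ∨
      Cfsg.IsCharacteristicTwoType ↥(H ⊔ Z) := by
    rintro (⟨M, hM, hSM⟩ | hcores)
    · refine Or.inl (exists_stronglyEmbedded_subgroupOf hM H (even_iff_two_dvd.2 (hReven.two_dvd.trans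
        (card_dvd_of_le (le_inf (inf_le_left.trans hSM) inf_le_right)))) fun hHM => hM.1 ?_)
      exact eq_top_iff.2 (hsup.ge.trans (sup_le hHM hSM))
    · haveI : (H ⊔ Z).Normal := by
        rw [← normalizer_eq_top_iff, eq_top_iff, ← hsup]
        refine sup_le (le_sup_left.trans le_normalizer) fun s hs => mem_normalizer_of_conj_eq ?_
        rw [Subgroup.map_sup]
        refine sup_le ((le_of_eq ?_).trans le_sup_left) ?_
        · refine le_antisymm ?_ fun y hy => ⟨s⁻¹ * y * s, by simpa using hHn.conj_mem y hy s⁻¹, by simp [mul_assoc]⟩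
          rintro _ ⟨y, hy, rfl⟩
          exact hHn.conj_mem y hy s
        · rintro _ ⟨y, hy, rfl⟩
          show s * y * s⁻¹ ∈ H ⊔ Z
          rw [← ((mem_omegaCenter.1 hy).2.1 s hs).eq, mul_inv_cancel_right]
          exact mem_sup_right hy
      refine Or.inr (isCharacteristicTwoType (hC.subgroup _) ?_ (core_normal_eq_bot _ hcores))
      exact even_iff_two_dvd.2 (hReven.two_dvd.trans (card_dvd_of_le (inf_le_right.trans le_sup_left)))
  by_cases h4 : 4 ≤ Nat.card Z
  · by_cases h8 : HasEight (S : Subgroup G)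
    · rcases hfromG (dichotomy_of_center_four hcon hO' S h4 h8) with h | h
      · exact Or.inl h
      · exact Or.inr (Or.inr (Or.inr h))
    -- every involution of `S` is central
    have hpow : ∀ F : Subgroup G, Cfsg.IsElementaryAbelian 2 F → 4 < Nat.card F → 8 ≤ Nat.card F := by
      intro F hF h
      obtain ⟨k, hk⟩ := IsPGroup.iff_card.1 (Grp.elemAb_isPGroup (p := 2) hF)
      have hk3 : 3 ≤ k := by
        by_contra hk3
        have : 2 ^ k ≤ 2 ^ 2 := Nat.pow_le_pow_right two_pos (by omega)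
        omega
      rw [hk]
      exact le_trans (by norm_num) (Nat.pow_le_pow_right two_pos hk3)
    have hall : ∀ x ∈ (S : Subgroup G), x ^ 2 = 1 → x ∈ Z := by
      intro x hx hx2
      by_contra hxZ
      refine h8 ⟨Z ⊔ zpowers x, sup_le hZS (zpowers_le.2 hx), elemAb_sup (omegaCenter_elemAb _)
        (elemAb_zpowers hx2) fun a ha b hb => ?_, hpow _ ?_ ?_⟩
      · obtain ⟨i, rfl⟩ := mem_zpowers_iff.1 hb
        exact ((mem_omegaCenter.1 ha).2.1 x hx).zpow_right i
      · exact elemAb_sup (omegaCenter_elemAb _) (elemAb_zpowers hx2) fun a ha b hb => by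
          obtain ⟨i, rfl⟩ := mem_zpowers_iff.1 hb
          exact ((mem_omegaCenter.1 ha).2.1 x hx).zpow_right i
      · exact lt_of_le_of_lt h4 (lt_of_le_of_ne (Subgroup.card_le_of_le le_sup_left) fun e =>
          hxZ ((eq_of_le_of_card_ge le_sup_left e.ge).ge (mem_sup_right (mem_zpowers x))))
    have hZ4 : Nat.card Z = 4 := by
      by_contra h
      exact h8 ⟨Z, hZS, omegaCenter_elemAb _, hpow _ (omegaCenter_elemAb _) (by omega)⟩
    -- the subgroup `Z ⊓ H`
    obtain ⟨x, hx⟩ := exists_prime_orderOf_dvd_card' (G := R) 2 hReven.two_dvd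
    have hxZ : (x : G) ∈ Z := hall x x.2.1 (by rw [← hx, ← orderOf_coe]; exact pow_orderOf_eq_one _)
    have hd : Nat.card ↥(Z ⊓ H) ∣ 4 := hZ4 ▸ card_dvd_of_le inf_le_left
    have h2 : 2 ∣ Nat.card ↥(Z ⊓ H) := by
      have h := orderOf_dvd_natCard (⟨(x : G), hxZ, x.2.2⟩ : ↥(Z ⊓ H))
      rwa [← orderOf_coe, orderOf_coe x, hx] at h
    have hle := Nat.le_of_dvd (by norm_num) hd
    have hpos := Nat.le_of_dvd Nat.card_pos h2
    by_cases h44 : Nat.card ↥(Z ⊓ H) = 4
    · refine Or.inr (Or.inr (Or.inl ⟨hZ4, le_antisymm ((closure_le _).2 fun y hy => hall y hy.1.1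
        (by simpa using hy.2)) ?_⟩))
      have he : Z ⊓ H = Z := eq_of_le_of_card_ge inf_le_left (by rw [h44, hZ4])
      intro y hy
      exact subset_closure ⟨⟨hZS hy, (he.ge hy).2⟩, by simpa using (mem_omegaCenter.1 hy).2.2⟩
    · refine Or.inr (Or.inl ⟨?_, fun h hh w hw hwS => hall _ hwS ?_⟩)
      · have hne3 : Nat.card ↥(Z ⊓ H) ≠ 3 := fun e => by rw [e] at h2; norm_num at h2
        omega
      · rw [conj_pow, (mem_omegaCenter.1 hw.1).2.2, mul_one, mul_inv_cancel]
  -- `Z` has order 2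
  push Not at h4
  obtain ⟨z, hzH, hzS, hzc, hz⟩ : ∃ z : G, z ∈ H ∧ z ∈ (S : Subgroup G) ∧
      (∀ s ∈ (S : Subgroup G), Commute z s) ∧ orderOf z = 2 := by
    set R₁ := R.subgroupOf (S : Subgroup G) with hR₁
    haveI : R₁.Normal := ⟨fun r hr s => ⟨(s * r * s⁻¹).2, hHn.conj_mem _ hr.2 _⟩⟩
    haveI : Group.IsNilpotent ↥(S : Subgroup G) := S.2.isNilpotent
    have hne : R₁ ≠ ⊥ := fun e => hR1 ((Subgroup.eq_bot_iff_forall _).2 fun r hr => by
      have h1 : (⟨r, hr.1⟩ : (S : Subgroup G)) ∈ R₁ := hr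
      rw [e, mem_bot] at h1
      exact congrArg Subtype.val h1)
    have hK := Grp.inf_center_ne_bot R₁ hne
    obtain ⟨k, hk0, hk⟩ := (S.2.to_subgroup (R₁ ⊓ center _)).nontrivial_iff_card.1
      ((Subgroup.nontrivial_iff_ne_bot _).2 hK)
    obtain ⟨w, hw⟩ := exists_prime_orderOf_dvd_card' (G := ↥(R₁ ⊓ center (S : Subgroup G))) 2
      (hk ▸ dvd_pow_self 2 hk0.ne')
    exact ⟨((w : (S : Subgroup G)) : G), w.2.1.2, (w : (S : Subgroup G)).2,
      fun s hs => (congrArg Subtype.val (mem_center_iff.1 w.2.2 ⟨s, hs⟩)).symm,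
      by rw [orderOf_coe, orderOf_coe, hw]⟩
  have hzsq : z ^ 2 = 1 := by rw [← hz]; exact pow_orderOf_eq_one z
  have hzZ : z ∈ Z := mem_omegaCenter.2 ⟨hzS, hzc, hzsq⟩
  have hZz : ∀ x ∈ Z, x ∈ zpowers z := by
    intro x hx
    by_contra hxz
    obtain ⟨hxS, -, hx2⟩ := mem_omegaCenter.1 hx
    have := four_le_card_sup hzsq hx2 (hzc x hxS) (Invol.ne_one_of_orderOf_two hz) hxz
    have := Subgroup.card_le_of_le (pair_le hzZ hx)
    omega
  have hZH : Z ⊓ H = zpowers z := le_antisymm (fun x hx => hZz x hx.1)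
    (zpowers_le.2 ⟨hzZ, hzH⟩)
  by_cases hwc : ∀ h ∈ H, h * z * h⁻¹ ∈ (S : Subgroup G) → h * z * h⁻¹ = z
  · refine Or.inr (Or.inl ⟨by rw [hZH, Nat.card_zpowers, hz], fun h hh w hw hwS => ?_⟩)
    rw [hZH] at hw
    obtain ⟨i, rfl⟩ := mem_zpowers_iff.1 hw
    rcases Int.even_or_odd' i with ⟨j, rfl | rfl⟩
    · rw [zpow_mul, zpow_two, Invol.mul_self_of_orderOf_two hz, one_zpow, mul_one, mul_inv_cancel]
      exact one_mem _
    · rw [zpow_add, zpow_mul, zpow_two, Invol.mul_self_of_orderOf_two hz, one_zpow, one_mul, zpow_one] at hwS ⊢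
      rw [hwc h hh hwS]
      exact hzZ
  push Not at hwc
  obtain ⟨h, hhH, hhS, hne⟩ := hwc
  -- pass to `H`
  have hX : H ⊔ Z = H := sup_eq_left.2 fun x hx => zpowers_le.2 hzH (hZz x hx)
  have hpg : IsPGroup 2 ↥((S : Subgroup G).subgroupOf H) := S.isPGroup'.comap_subtype
  let S₁ : Sylow 2 H := hpg.toSylow hRidx
  have hS₁ : ∀ x : H, x ∈ (S₁ : Subgroup H) ↔ (x : G) ∈ (S : Subgroup G) := fun x => Iff.rfl
  have hC₁ := hC.subgroup H
  have hO₁ : Cfsg.pPrimeCore 2 H = ⊥ := by
    refine (map_eq_bot_iff_of_injective _ H.subtype_injective).1 ?_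
    rw [Grp.pPrimeCore_map_eq, hO', bot_inf_eq]
  have hidx : NoIndexTwo H := fun M hM hM2 => by
    haveI := hM
    have hle := Transfer.pResidual_le_of_index (p := 2) (N := M) (k := 1) (by rw [hM2, pow_one])
    have htop : Cfsg.pResidual 2 H = ⊤ := by
      refine eq_top_iff.2 fun x _ => ?_
      have hx : x ∈ closure (((↑) : H → G) ⁻¹' {g : G | Nat.Coprime (orderOf g) 2}) := by
        have := closure_closure_coe_preimage (k := {g : G | Nat.Coprime (orderOf g) 2})
        exact this.ge (mem_top x)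
      refine closure_mono (fun y hy => ?_) hx
      show Nat.Coprime (orderOf y) 2
      rw [← orderOf_coe]; exact hy
    rw [htop, top_le_iff] at hle
    rw [hle, index_top] at hM2
    omega
  have hCz₁ : centralizer ({(⟨z, hzH⟩ : H)} : Set H) ≤ normalizer ((S₁ : Subgroup H) : Set H) := by
    intro c hc
    have hcG : (c : G) ∈ normalizer ((S : Subgroup G) : Set G) := hZ S (mem_centralizer_iff.2 fun x hx => by
      obtain ⟨i, rfl⟩ := mem_zpowers_iff.1 (hZz x hx)
      exact ((show Commute z c from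
        (congrArg Subtype.val (mem_centralizer_singleton_iff.1 hc)).symm).zpow_left i).eq)
    exact mem_normalizer_iff.2 fun x => (mem_normalizer_iff.1 hcG (x : G))
  have hz₁ : orderOf (⟨z, hzH⟩ : H) = 2 := by rw [orderOf_mk, hz]
  have hzc₁ : ∀ s ∈ (S₁ : Subgroup H), Commute (⟨z, hzH⟩ : H) s := fun s hs => Subtype.ext (hzc s hs).eq
  have hz₁S : (⟨z, hzH⟩ : H) ∈ (S₁ : Subgroup H) := hzS
  have hd : Dichotomy S₁ := by
    by_cases h8 : HasEight (S₁ : Subgroup H)
    · by_cases h41 : 4 ≤ Nat.card (omegaCenter (S₁ : Subgroup H))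
      · exact dichotomy_of_center_four (localConstrained hC₁) hO₁ S₁ h41 h8
      · refine dichotomy_of_center_two (localConstrained hC₁) hO₁ S₁ hz₁ hzS hzc₁ (fun x hx => ?_) hCz₁ hidx h8
        by_contra hxz
        obtain ⟨hxS, -, hx2⟩ := mem_omegaCenter.1 hx
        have hz2₁ : (⟨z, hzH⟩ : H) ^ 2 = 1 := Subtype.ext hzsq
        have := four_le_card_sup hz2₁ hx2 (hzc₁ x hxS) (Invol.ne_one_of_orderOf_two hz₁) hxz
        have := Subgroup.card_le_of_le
          (pair_le (mem_omegaCenter.2 ⟨hz₁S, hzc₁, hz2₁⟩) hx)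
        omega
    · exact dichotomy_of_rank_two (localConstrained hC₁) hO₁ S₁ hz₁ hzS hzc₁ hCz₁ h8 hidx
        (z' := ⟨h * z * h⁻¹, hHn.conj_mem z hzH h⟩) hhS ⟨⟨h, hhH⟩, rfl⟩ fun e => hne (congrArg Subtype.val e)
  rcases hd with ⟨M, hM, -⟩ | hcores
  · exact Or.inl ⟨M, hM⟩
  · refine Or.inr (Or.inr (Or.inr ?_))
    rw [hX]
    exact isCharacteristicTwoType hC₁ (even_iff_two_dvd.2
      (hReven.two_dvd.trans (card_dvd_of_le inf_le_right))) hcores

end Cfsg.Agent.Grp.ZN
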