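import Cfsg.Agent.Lib.Grp.ZNGroups.Closure
import Cfsg.Agent.Lib.Grp.ZNGroups.Local
import Cfsg.Agent.Lib.Invol.NormalFour
import Cfsg.Agent.S0111

/-!
# Uniform closures when a Sylow 2-subgroup has 2-rank at least 3
-/

set_option autoImplicit false
set_option linter.unusedSectionVars false

namespace Cfsg.Agent.Grp.ZN

open Cfsg Subgroup ConstrainedCores

universe u

variable {G : Type u} [Group G] [Finite G]

/-- The conclusion shared by the cases below. -/
def Dichotomy (S : Sylow 2 G) : Prop :=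
  (∃ M : Subgroup G, Cfsg.IsStronglyEmbedded M ∧ (S : Subgroup G) ≤ M) ∨
    ∀ t : G, orderOf t = 2 → core t = ⊥

/-- No normal subgroup of index 2. -/
def NoIndexTwo (G : Type u) [Group G] : Prop :=
  ∀ M : Subgroup G, M.Normal → M.index ≠ 2

theorem coreOver_odd_of_le (hcon : LocalConstrained G) {B F : Subgroup G} (hBF : B ≤ F)
    (hF : Cfsg.IsElementaryAbelian 2 F) (h8 : 8 ≤ Nat.card F) : Odd (Nat.card (coreOver B)) := by
  haveI : Fact (Nat.Prime 2) := ⟨Nat.prime_two⟩
  have h := (Transfer.SFT.closure_complete hF (by norm_num; exact h8) (functor_of_elemAb hcon ft hF)).2.1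
  refine Nat.not_even_iff_odd.1 fun he => h ?_
  exact he.two_dvd.trans (card_dvd_of_le (coreOver_mono hBF))

/-- Theorem A: a noncyclic centre and 2-rank at least 3. -/
theorem dichotomy_of_center_four (hcon : LocalConstrained G) (hO : Cfsg.pPrimeCore 2 G = ⊥) (S : Sylow 2 G)
    (h4 : 4 ≤ Nat.card (omegaCenter (S : Subgroup G))) (h8 : HasEight (S : Subgroup G)) : Dichotomy S := by
  obtain ⟨E, hES, hE, hE8⟩ := h8
  set Z := omegaCenter (S : Subgroup G) with hZ
  have hZe : Cfsg.IsElementaryAbelian 2 Z := omegaCenter_elemAb _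
  have hZS : Z ≤ (S : Subgroup G) := fun x hx => (mem_omegaCenter.1 hx).1
  have hZE : ∀ z ∈ Z, ∀ e ∈ E, Commute z e := fun z hz e he => (mem_omegaCenter.1 hz).2.1 e (hES he)
  have hU : Uniform S (coreOver Z) :=
    { odd := coreOver_odd_of_le hcon (le_sup_left : Z ≤ Z ⊔ E) (elemAb_sup hZe hE hZE)
        (hE8.trans (Subgroup.card_le_of_le le_sup_right))
      four := fun B hBS hB hB4 => (coreOver_eq_of_commute hcon ft hZe h4 hB hB4
        fun z hz b hb => (mem_omegaCenter.1 hz).2.1 b (hBS hb)).symm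
      exists_four := ⟨Z, hZS, hZe, h4⟩ }
  obtain ⟨z, hz, hz1⟩ := exists_notMem h4 (one_pow 2 : (1 : G) ^ 2 = 1)
  obtain ⟨hzS, hzc, hz2⟩ := mem_omegaCenter.1 hz
  obtain ⟨a, ha, haz⟩ := exists_notMem h4 hz2
  obtain ⟨haS, hac, ha2⟩ := mem_omegaCenter.1 ha
  have hzo : orderOf z = 2 := orderOf_of_sq hz2 fun e => hz1 (by rw [e]; exact one_mem _)
  refine hU.dichotomy hcon hO hzS hzo hzc ?_
  refine hU.centralizer_le_of hcon (fun h1 h2 => hU.core_le_W hzS hz2 hzc h1 h2) hzo (Q := (S : Subgroup G))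
    le_rfl (fun s hs => mem_centralizer_singleton_iff.2 (hzc s hs).eq.symm) (fun T hT hST _ => ?_) hzS haS ha2
    hac haz
  exact (S.3 hT hST).le

/-- Theorem C3: a cyclic centre and 2-rank at least 3. -/
theorem dichotomy_of_center_two (hcon : LocalConstrained G) (hO : Cfsg.pPrimeCore 2 G = ⊥) (S : Sylow 2 G)
    {z : G} (hz : orderOf z = 2) (hzS : z ∈ (S : Subgroup G)) (hzc : ∀ s ∈ (S : Subgroup G), Commute z s)
    (hZ : ∀ x ∈ omegaCenter (S : Subgroup G), x ∈ zpowers z)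
    (hCz : centralizer ({z} : Set G) ≤ normalizer ((S : Subgroup G) : Set G))
    (hidx : NoIndexTwo G) (h8 : HasEight (S : Subgroup G)) : Dichotomy S := by
  classical
  haveI : Fact (Nat.Prime 2) := ⟨Nat.prime_two⟩
  obtain ⟨E, hES, hE, hE8⟩ := h8
  have hzsq : z ^ 2 = 1 := by rw [← hz]; exact pow_orderOf_eq_one z
  have hone : ∀ x ∈ zpowers z, x = 1 ∨ x = z := fun x hx => by
    obtain ⟨i, rfl⟩ := mem_zpowers_iff.1 hx
    rcases Int.even_or_odd' i with ⟨j, rfl | rfl⟩
    · left; rw [zpow_mul, zpow_two, Invol.mul_self_of_orderOf_two hz, one_zpow]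
    · right; rw [zpow_add, zpow_mul, zpow_two, Invol.mul_self_of_orderOf_two hz, one_zpow, one_mul, zpow_one]
  -- a normal four subgroup
  obtain ⟨E₀, hE₀, hE₀8⟩ : ∃ E₀ : Subgroup (S : Subgroup G), (∀ e ∈ E₀, e ^ 2 = 1) ∧ Nat.card E₀ = 8 := by
    obtain ⟨k, hk⟩ := IsPGroup.iff_card.1 (Grp.elemAb_isPGroup (p := 2) hE)
    have h3 : 2 ^ 3 ∣ Nat.card E := by
      rw [hk]; refine pow_dvd_pow 2 ?_
      by_contra h
      have : 2 ^ k ≤ 2 ^ 2 := Nat.pow_le_pow_right two_pos (by omega)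
      omega
    obtain ⟨K, hK⟩ := Sylow.exists_subgroup_card_pow_prime (G := E) 2 h3
    refine ⟨(K.map E.subtype).subgroupOf (S : Subgroup G), fun e he => Subtype.ext ?_, ?_⟩
    · obtain ⟨y, -, hy⟩ := he
      have hy' : (y : G) = (e : G) := hy
      rw [SubmonoidClass.coe_pow, ← hy', OneMemClass.coe_one]
      exact hE.2 y y.2
    · rw [Nat.card_congr (subgroupOfEquivOfLe ((map_subtype_le K).trans hES)).toEquiv,
        Subgroup.card_map_of_injective E.subtype_injective, hK]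
      norm_num
  obtain ⟨U₁, hU₁n, hU₁4, hU₁2⟩ := Invol.NormalFour.exists_normal_four S.2 E₀ hE₀8 hE₀
  set U₀ := U₁.map (S : Subgroup G).subtype with hU₀
  have hU₀S : U₀ ≤ (S : Subgroup G) := map_subtype_le _
  have hU₀4 : Nat.card U₀ = 4 := by
    rw [hU₀, Subgroup.card_map_of_injective (S : Subgroup G).subtype_injective, hU₁4]
  have hU₀2 : ∀ x ∈ U₀, x ^ 2 = 1 := by
    rintro _ ⟨x, hx, rfl⟩
    rw [← map_pow, hU₁2 x hx, map_one]
  have hU₀e : Cfsg.IsElementaryAbelian 2 U₀ := ⟨⟨⟨fun a b => Subtype.ext (Commute.eq ?_)⟩⟩, hU₀2⟩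
  swap
  · have h := hU₀2 _ (mul_mem a.2 b.2)
    have ha := hU₀2 _ a.2
    have hb := hU₀2 _ b.2
    rw [pow_two] at h ha hb
    calc (a : G) * b = (a : G)⁻¹ * (b : G)⁻¹ := by rw [inv_eq_of_mul_eq_one_right ha, inv_eq_of_mul_eq_one_right hb]
      _ = ((b : G) * a)⁻¹ := (mul_inv_rev _ _).symm
      _ = (b : G) * a := by
        have h' := hU₀2 _ (mul_mem b.2 a.2)
        rw [pow_two] at h'
        exact inv_eq_of_mul_eq_one_right h'
  have hU₀n : ∀ s ∈ (S : Subgroup G), ∀ x ∈ U₀, s * x * s⁻¹ ∈ U₀ := by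
    rintro s hs _ ⟨x, hx, rfl⟩
    exact ⟨⟨s, hs⟩ * x * ⟨s, hs⟩⁻¹, hU₁n.conj_mem x hx _, rfl⟩
  have hzU : z ∈ U₀ := by
    haveI := hU₁n
    haveI : Group.IsNilpotent ↥(S : Subgroup G) := S.2.isNilpotent
    obtain ⟨w, hw, hw1⟩ := (Subgroup.ne_bot_iff_exists_ne_one.1
      (Grp.inf_center_ne_bot U₁ (fun e => by rw [e, Subgroup.card_bot] at hU₁4; omega))) |>.elim
        fun x hx => (⟨x, x.2, fun e => hx (Subtype.ext e)⟩ :
          ∃ b : ↥(S : Subgroup G), b ∈ U₁ ⊓ center _ ∧ b ≠ 1)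
    have hwZ : (w : G) ∈ omegaCenter (S : Subgroup G) := mem_omegaCenter.2 ⟨w.2, fun s hs =>
      (congrArg Subtype.val (mem_center_iff.1 hw.2 ⟨s, hs⟩)).symm, hU₀2 _ ⟨w, hw.1, rfl⟩⟩
    rcases hone _ (hZ _ hwZ) with h | h
    · exact absurd (Subtype.ext h) hw1
    · exact h ▸ ⟨w, hw.1, rfl⟩
  obtain ⟨t₀, ht₀, ht₀z⟩ := exists_notMem hU₀4.ge hzsq
  set C := (S : Subgroup G) ⊓ centralizer (U₀ : Set G) with hC
  -- the four elements of `U₀`
  have hcases : ∀ x ∈ U₀, x ∈ zpowers z ∨ x * t₀ ∈ zpowers z := by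
    intro x hx
    by_contra h
    push Not at h
    obtain ⟨hx1, hx2⟩ := h
    have h5 : 5 ≤ Nat.card U₀ := by
      have hsub : ({1, z, t₀, z * t₀, x} : Finset G) ⊆ (U₀ : Set G).toFinite.toFinset := by
        intro y hy
        rw [Set.Finite.mem_toFinset, SetLike.mem_coe]
        simp only [Finset.mem_insert, Finset.mem_singleton] at hy
        rcases hy with rfl | rfl | rfl | rfl | rfl
        exacts [one_mem _, hzU, ht₀, mul_mem hzU ht₀, hx]
      have := Finset.card_le_card hsub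
      rw [← Set.ncard_eq_toFinset_card _ _, ← Nat.card_coe_set_eq] at this
      refine le_trans (le_of_eq ?_) this
      have hzm : z ∈ zpowers z := mem_zpowers z
      have ht₀t : t₀ * t₀ = 1 := by rw [← pow_two]; exact hU₀2 _ ht₀
      rw [Finset.card_insert_of_notMem, Finset.card_insert_of_notMem, Finset.card_insert_of_notMem,
        Finset.card_insert_of_notMem, Finset.card_singleton]
      · simp only [Finset.mem_singleton]
        rintro rfl
        exact hx2 (by rwa [mul_assoc, ht₀t, mul_one])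
      · simp only [Finset.mem_insert, Finset.mem_singleton, not_or]
        refine ⟨fun e => (Invol.ne_one_of_orderOf_two hz) (mul_right_cancel (e.symm.trans (one_mul t₀).symm)), ?_⟩
        rintro rfl
        exact hx2 (by rw [ht₀t]; exact one_mem _)
      · simp only [Finset.mem_insert, Finset.mem_singleton, not_or]
        refine ⟨fun e => ht₀z (e ▸ hzm), fun e => ?_, fun e => hx1 (e ▸ hzm)⟩
        exact ht₀z ((mul_left_cancel ((mul_one z).trans e)) ▸ one_mem _)
      · simp only [Finset.mem_insert, Finset.mem_singleton, not_or]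
        refine ⟨fun e => Invol.ne_one_of_orderOf_two hz e.symm, fun e => ht₀z (e ▸ one_mem _),
          fun e => ht₀z ?_, fun e => hx1 (e ▸ one_mem _)⟩
        rw [← inv_eq_of_mul_eq_one_right e.symm]
        exact inv_mem hzm
    omega
  have hcomm : ∀ g : G, Commute g t₀ → Commute g z → g ∈ centralizer (U₀ : Set G) := by
    intro g hgt hgz
    refine mem_centralizer_iff.2 fun x hx => ?_
    have hgzp : ∀ y ∈ zpowers z, Commute g y := fun y hy => by
      obtain ⟨i, rfl⟩ := mem_zpowers_iff.1 hy; exact hgz.zpow_right i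
    rcases hcases x hx with h | h
    · exact (hgzp x h).eq.symm
    · have := (hgzp _ h).mul_right hgt.inv_right
      rw [mul_inv_cancel_right] at this
      exact this.eq.symm
  -- `C` has index 2 in `S`
  have hC2 : C.relIndex (S : Subgroup G) = 2 := by
    obtain ⟨s, hs, hst⟩ : ∃ s ∈ (S : Subgroup G), ¬ Commute s t₀ := by
      by_contra h
      push Not at h
      exact ht₀z (hZ _ (mem_omegaCenter.2 ⟨hU₀S ht₀, fun s hs => (h s hs).symm, hU₀2 _ ht₀⟩))
    have hmove : ∀ r ∈ (S : Subgroup G), ¬ Commute r t₀ → r * t₀ * r⁻¹ = z * t₀ := by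
      intro r hr hrt
      have hrx := hU₀n r hr t₀ ht₀
      have hnz : r * t₀ * r⁻¹ ∉ zpowers z := fun h => by
        rcases hone _ h with e | e
        · exact ht₀z ((conj_eq_one_iff.1 e) ▸ one_mem _)
        · refine ht₀z ?_
          have : t₀ = r⁻¹ * z * r := by rw [← e]; group
          rw [this, mul_assoc, (hzc r hr).eq, inv_mul_cancel_left]
          exact mem_zpowers z
      rcases hcases _ hrx with h | h
      · exact absurd h hnz
      · rcases hone _ h with e | e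
        · refine absurd ?_ hrt
          have ht1 : t₀ * t₀ = 1 := by rw [← pow_two]; exact hU₀2 _ ht₀
          exact mul_inv_eq_iff_eq_mul.1 (mul_right_cancel (e.trans ht1.symm))
        · have ht1 : t₀ * t₀ = 1 := by rw [← pow_two]; exact hU₀2 _ ht₀
          rw [← e, mul_assoc (r * t₀ * r⁻¹), ht1, mul_one]
    rw [relIndex, index_eq_two_iff]
    refine ⟨⟨s, hs⟩, fun b => ?_⟩
    have hiff : ∀ r : (S : Subgroup G), r ∈ C.subgroupOf (S : Subgroup G) ↔ Commute (r : G) t₀ := fun r =>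
      ⟨fun h => (mem_centralizer_iff.1 (mem_subgroupOf.1 h).2 t₀ ht₀).symm,
        fun h => mem_subgroupOf.2 ⟨r.2, hcomm _ h (hzc _ r.2).symm⟩⟩
    rw [hiff, hiff]
    by_cases hb : Commute (b : G) t₀
    · refine Or.inr ⟨hb, fun h => hst ?_⟩
      have := hb.inv_left.mul_left h
      simpa using this
    · refine Or.inl ⟨?_, hb⟩
      have h1 := hmove _ b.2 hb
      have h2 := hmove s hs hst
      refine mul_inv_eq_iff_eq_mul.1 ?_
      have hbz : (b : G) * z * (b : G)⁻¹ = z := by rw [← (hzc _ b.2).eq, mul_inv_cancel_right]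
      have hzz : z * z = 1 := Invol.mul_self_of_orderOf_two hz
      show (b : G) * s * t₀ * ((b : G) * s)⁻¹ = t₀
      calc (b : G) * s * t₀ * ((b : G) * s)⁻¹ = (b : G) * (s * t₀ * s⁻¹) * (b : G)⁻¹ := by group
        _ = ((b : G) * z * (b : G)⁻¹) * ((b : G) * t₀ * (b : G)⁻¹) := by rw [h2]; group
        _ = t₀ := by rw [hbz, h1, ← mul_assoc, hzz, one_mul]
  -- an elementary subgroup of order 8 inside `C`
  obtain ⟨E₁, hE₁C, hE₁, hE₁8⟩ : ∃ E₁ : Subgroup G, E₁ ≤ C ∧ Cfsg.IsElementaryAbelian 2 E₁ ∧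
      8 ≤ Nat.card E₁ := by
    by_cases hEC : E ≤ C
    · exact ⟨E, hEC, hE, hE8⟩
    have hce : ∀ a ∈ C ⊓ E, ∀ b ∈ U₀, Commute a b := fun a ha b hb =>
      (mem_centralizer_iff.1 ha.1.2 b hb).symm
    have he := elemAb_sup (Grp.elemAb_mono hE (inf_le_right : C ⊓ E ≤ E)) hU₀e hce
    refine ⟨(C ⊓ E) ⊔ U₀, sup_le inf_le_left (le_inf hU₀S fun x hx =>
      mem_centralizer_iff.2 fun y hy => Grp.elemAb_comm hU₀e _ hy _ hx), he, ?_⟩
    have h1 : C.relIndex E ≤ 2 := hC2 ▸ relIndex_le_of_le_right hES (by omega)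
    have h3 : Nat.card ↥(C ⊓ E) * C.relIndex E = Nat.card E := by
      rw [← inf_relIndex_right, ← relIndex_bot_left, ← relIndex_bot_left,
        relIndex_mul_relIndex _ _ _ bot_le inf_le_right]
    have h4 : 4 ≤ Nat.card ↥(C ⊓ E) := by
      have := Nat.mul_le_mul_left (Nat.card ↥(C ⊓ E)) h1
      omega
    have hlt : Nat.card ↥(C ⊓ E) < Nat.card ↥((C ⊓ E) ⊔ U₀ : Subgroup G) := by
      refine lt_of_le_of_ne (Subgroup.card_le_of_le le_sup_left) fun e => hEC fun x hx => ⟨hES hx, ?_⟩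
      have heq := eq_of_le_of_card_ge (le_sup_left : C ⊓ E ≤ (C ⊓ E) ⊔ U₀) e.ge
      exact mem_centralizer_iff.2 fun u hu =>
        Grp.elemAb_comm hE _ (heq.ge (mem_sup_right hu)).2 _ hx
    obtain ⟨k, hk⟩ := IsPGroup.iff_card.1 (Grp.elemAb_isPGroup (p := 2) he)
    have hk3 : 3 ≤ k := by
      by_contra h
      have : 2 ^ k ≤ 2 ^ 2 := Nat.pow_le_pow_right two_pos (by omega)
      omega
    rw [hk]
    exact le_trans (by norm_num) (Nat.pow_le_pow_right two_pos hk3)
  have hU₀C : ∀ x ∈ U₀, ∀ y ∈ C, Commute x y := fun x hx y hy => mem_centralizer_iff.1 hy.2 x hx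
  -- every involution of `C` is centralized by an elementary subgroup of order 8
  have hrich : ∀ v ∈ C, v ^ 2 = 1 → ∃ A : Subgroup G, Cfsg.IsElementaryAbelian 2 A ∧ 8 ≤ Nat.card A ∧
      A ≤ centralizer ({v} : Set G) := by
    intro v hv hv2
    by_cases hvU : v ∈ U₀
    · exact ⟨E₁, hE₁, hE₁8, fun y hy =>
        mem_centralizer_singleton_iff.2 (hU₀C v hvU y (hE₁C hy)).eq.symm⟩
    refine ⟨U₀ ⊔ zpowers v, elemAb_sup hU₀e (elemAb_zpowers hv2) fun a ha b hb => ?_, ?_, ?_⟩
    · obtain ⟨i, rfl⟩ := mem_zpowers_iff.1 hb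
      exact (hU₀C a ha v hv).zpow_right i
    · have hlt : Nat.card U₀ < Nat.card (U₀ ⊔ zpowers v : Subgroup G) :=
        lt_of_le_of_ne (Subgroup.card_le_of_le le_sup_left) fun e =>
          hvU ((eq_of_le_of_card_ge le_sup_left e.ge).ge (mem_sup_right (mem_zpowers v)))
      have hd : 4 ∣ Nat.card (U₀ ⊔ zpowers v : Subgroup G) := hU₀4 ▸ card_dvd_of_le le_sup_left
      omega
    · exact sup_le (fun y hy => mem_centralizer_singleton_iff.2 (hU₀C y hy v hv).eq)
        (zpowers_le.2 (mem_centralizer_singleton_iff.2 rfl))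
  -- the fours containing `z`
  have key : ∀ v ∈ (S : Subgroup G), v ^ 2 = 1 → v ∉ zpowers z →
      coreOver (zpowers z ⊔ zpowers v) = coreOver U₀ := by
    intro v hvS hv2 hvz
    have hB := elemAb_pair hzsq hv2 (hzc v hvS)
    have hB4 := four_le_card_sup hzsq hv2 (hzc v hvS) (Invol.ne_one_of_orderOf_two hz) hvz
    have hlink : ∀ w ∈ C, w ^ 2 = 1 → w ∉ zpowers z → coreOver (zpowers z ⊔ zpowers w) = coreOver U₀ := by
      intro w hw hw2 hwz
      exact coreOver_eq_of_commute hcon ft (elemAb_pair hzsq hw2 (hzc w hw.1))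
        (four_le_card_sup hzsq hw2 (hzc w hw.1) (Invol.ne_one_of_orderOf_two hz) hwz) hU₀e hU₀4.ge
        fun b hb x hx => pair_commute (hzc x (hU₀S hx)) (hU₀C x hx w hw).symm b hb
    by_cases hvC : v ∈ C
    · exact hlink v hvC hv2 hvz
    by_cases hw : ∃ w ∈ C, w ^ 2 = 1 ∧ w ∉ zpowers z ∧ Commute w v
    · obtain ⟨w, hwC, hw2, hwz, hwv⟩ := hw
      refine (coreOver_eq_of_commute hcon ft hB hB4 (elemAb_pair hzsq hw2 (hzc w hwC.1))
        (four_le_card_sup hzsq hw2 (hzc w hwC.1) (Invol.ne_one_of_orderOf_two hz) hwz)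
        fun b hb c hc => ?_).trans (hlink w hwC hw2 hwz)
      have hzc' : Commute z c := hzc c (pair_le hzS hwC.1 hc)
      exact pair_commute hzc' ((pair_commute (hzc v hvS) hwv c hc).symm) b hb
    push Not at hw
    exfalso
    have hvo : orderOf v = 2 := orderOf_of_sq hv2 fun e => hvz (e ▸ one_mem _)
    have hD : ∀ w ∈ (S : Subgroup G), w ∈ C → w ^ 2 = 1 → Commute w v → w ∈ zpowers z :=
      fun w _ hwC hw2 hwv => by_contra fun h => hw w hwC hw2 h hwv
    rcases cyclicTwo_or_max hC2 hz ⟨hzS, mem_centralizer_iff.2 fun y hy => (hzc y (hU₀S hy)).eq.symm⟩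
      hzS hzc hCz hvS hvo hvC hD with hcyc | hmax
    · exact hcyc.not_hasEight ⟨E, hES, hE, hE8⟩
    -- Thompson transfer
    rcases Cfsg.Agent.S0111.result S C inf_le_left hC2 v hvo hvS hvC with ⟨M, hM, hM2, -⟩ | ⟨g, hg⟩
    · exact hidx M hM hM2
    obtain ⟨A, hA, hA8, hAc⟩ := hrich _ hg (by rw [conj_pow, hv2, mul_one, mul_inv_cancel])
    set A' := A.map (MulAut.conj g⁻¹).toMonoidHom with hA'
    have hA'e : Cfsg.IsElementaryAbelian 2 A' := map_elemAb _ hA
    have hA'c : A' ≤ centralizer ({v} : Set G) := by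
      rintro _ ⟨a, ha, rfl⟩
      have := (show Commute a (g * v * g⁻¹) from mem_centralizer_singleton_iff.1 (hAc ha)).map
        (MulAut.conj g⁻¹).toMonoidHom
      exact mem_centralizer_singleton_iff.2 (by simpa [mul_assoc] using this.eq)
    set K := centralizer ({v} : Set G) with hK
    set Q := (S : Subgroup G) ⊓ K with hQ
    obtain ⟨P, hP⟩ := ((S.2.to_le inf_le_left : IsPGroup 2 Q).comap_of_injective K.subtype
      K.subtype_injective).exists_le_sylow
    have hPQ : ∀ x : K, x ∈ (P : Subgroup K) → (x : G) ∈ Q := fun x hx =>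
      hmax ((P : Subgroup K).map K.subtype) (P.2.map _)
        (fun q hq => ⟨⟨q, hq.2⟩, hP hq, rfl⟩) (map_subtype_le _) ⟨x, hx, rfl⟩
    obtain ⟨m, -, hm⟩ := exists_conj_le P le_top le_top
      ((Grp.elemAb_isPGroup (p := 2) hA'e).comap_of_injective K.subtype K.subtype_injective)
    have hsmall : ∀ F : Subgroup G, F ≤ Q → Cfsg.IsElementaryAbelian 2 F → Nat.card F ≤ 4 := by
      intro F hFQ hF
      have h1 : C.relIndex F ≤ 2 := hC2 ▸ relIndex_le_of_le_right (hFQ.trans inf_le_left) (by omega)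
      have h2 : Nat.card ↥(C ⊓ F) ≤ 2 := by
        refine le_trans (Subgroup.card_le_of_le (fun x hx => hD x (hFQ hx.2).1 hx.1 (hF.2 x hx.2)
          (mem_centralizer_singleton_iff.1 (hFQ hx.2).2))) ?_
        rw [Nat.card_zpowers, hz]
      have h3 : Nat.card ↥(C ⊓ F) * C.relIndex F = Nat.card F := by
        rw [← inf_relIndex_right, ← relIndex_bot_left, ← relIndex_bot_left,
          relIndex_mul_relIndex _ _ _ bot_le inf_le_right]
      have h4 := Nat.mul_le_mul h2 h1
      omega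
    have hF := hsmall (A'.map (MulAut.conj (m : G)).toMonoidHom) ?_ (map_elemAb _ hA'e)
    · rw [Subgroup.card_map_of_injective (MulAut.conj (m : G)).injective, hA',
        Subgroup.card_map_of_injective (MulAut.conj g⁻¹).injective] at hF
      omega
    · rintro _ ⟨a, ha, rfl⟩
      exact hPQ _ (hm ⟨a, hA'c ha⟩ ha)
  have hU : Uniform S (coreOver U₀) :=
    { odd := by
        by_cases h : U₀ ≤ E₁
        · exact coreOver_odd_of_le hcon h hE₁ hE₁8
        · exact coreOver_odd_of_le hcon (le_sup_right : U₀ ≤ E₁ ⊔ U₀)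
            (elemAb_sup hE₁ hU₀e fun a ha b hb => (hU₀C b hb a (hE₁C ha)).symm)
            (hE₁8.trans (Subgroup.card_le_of_le le_sup_left))
      four := fun B hBS hB hB4 => by
        obtain ⟨v, hvB, hvz⟩ := exists_notMem hB4 hzsq
        have hv2 := hB.2 v hvB
        refine (coreOver_eq_of_commute hcon ft hB hB4 (elemAb_pair hzsq hv2 (hzc v (hBS hvB)))
          (four_le_card_sup hzsq hv2 (hzc v (hBS hvB)) (Invol.ne_one_of_orderOf_two hz) hvz)
          fun b hb c hc => (pair_commute (hzc b (hBS hb)) (Grp.elemAb_comm hB v hvB b hb) c hc).symm).trans ?_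
        exact key v (hBS hvB) hv2 hvz
      exists_four := ⟨U₀, hU₀S, hU₀e, hU₀4.ge⟩ }
  exact hU.dichotomy hcon hO hzS hz hzc (hCz.trans hU.normalizer_sylow_le)

end Cfsg.Agent.Grp.ZN
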