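import Cfsg.Agent.Lib.Grp.ZNGroups.RankThree
import Cfsg.Agent.Lib.Fus.CaminaPairBasic
import Cfsg.Agent.Lib.Recog.NormalAbelianCyclic
import Cfsg.Agent.Lib.Invol.OneInvol
import Cfsg.Agent.Lib.Grp.CyclicAbelian.Basic

/-!
# A fused central involution in a Sylow 2-subgroup of 2-rank 2
-/

set_option autoImplicit false
set_option linter.unusedSectionVars false

namespace Cfsg.Agent.Grp.ZN

open Cfsg Subgroup ConstrainedCores

universe u

variable {G : Type u} [Group G] [Finite G]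

/-- Conjugacy to a fixed element. -/
abbrev ConjTo (z x : G) : Prop := ∃ g : G, g * z * g⁻¹ = x

theorem ConjTo.trans {z x y : G} (h : ConjTo z x) (h' : ∃ g : G, g * x * g⁻¹ = y) : ConjTo z y := by
  obtain ⟨g, rfl⟩ := h
  obtain ⟨g', rfl⟩ := h'
  exact ⟨g' * g, by group⟩

/-- A 2-group with every normal abelian subgroup cyclic has a cyclic subgroup of index 2, or is cyclic. -/
theorem cyclicTwo_of_normal_abelian (S : Sylow 2 G)
    (hn : ∀ A : Subgroup (S : Subgroup G), A.Normal → IsMulCommutative A → IsCyclic A) :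
    IsCyclic (S : Subgroup G) ∨ HasCyclicTwo (S : Subgroup G) := by
  haveI : Fact (Nat.Prime 2) := ⟨Nat.prime_two⟩
  haveI := S.2.isNilpotent
  obtain ⟨U, hUn, hUab, hUc⟩ := OneInvol.exists_selfCentralizing_abelian (R := (S : Subgroup G))
  obtain ⟨⟨a, haU⟩, hgen⟩ := (hn U hUn ⟨⟨fun s t => Subtype.ext (hUab s s.2 t t.2)⟩⟩).exists_generator
  have hUa : U = zpowers a := by
    refine le_antisymm (fun s hs => ?_) (zpowers_le.mpr haU)
    obtain ⟨i, hi⟩ := mem_zpowers_iff.mp (hgen ⟨s, hs⟩)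
    exact ⟨i, congrArg Subtype.val hi⟩
  subst hUa
  by_cases hall : ∀ g : (S : Subgroup G), g ∈ zpowers a
  · exact Or.inl ⟨⟨a, hall⟩⟩
  push Not at hall
  obtain ⟨g₀, hg₀⟩ := hall
  obtain ⟨n, han⟩ := IsPGroup.iff_orderOf.mp S.2 a
  have hC : ∀ g : (S : Subgroup G), Commute g a → g ∈ zpowers a := fun g hg => hUc g fun s hs => by
    obtain ⟨i, rfl⟩ := mem_zpowers_iff.mp hs
    exact (hg.zpow_right i).symm
  obtain ⟨-, -, hcard, -⟩ := Cfsg.Agent.NAC.no_modular_shape S.2 han hUn hC hg₀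
    fun g c h1 h2 h3 h4 h5 => Cfsg.Agent.NAC.not_modular hn h1 h2 han hUn hC h3 h4 h5
  exact Or.inr (hasCyclicTwo_of_zpowers a han hcard)

/-- All involutions of the Sylow subgroup are conjugate to the central one. -/
theorem all_conj (S : Sylow 2 G) {z z' : G} (hz : orderOf z = 2) (hzS : z ∈ (S : Subgroup G))
    (hzc : ∀ s ∈ (S : Subgroup G), Commute z s)
    (hCz : centralizer ({z} : Set G) ≤ normalizer ((S : Subgroup G) : Set G))
    (h8 : ¬ HasEight (S : Subgroup G)) (hidx : NoIndexTwo G)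
    (hz'S : z' ∈ (S : Subgroup G)) (hz' : ConjTo z z') (hne : z' ≠ z) :
    ∀ x ∈ (S : Subgroup G), orderOf x = 2 → ConjTo z x := by
  classical
  haveI : Fact (Nat.Prime 2) := ⟨Nat.prime_two⟩
  have hzsq : z ^ 2 = 1 := by rw [← hz]; exact pow_orderOf_eq_one z
  have hz1 : z ≠ 1 := Invol.ne_one_of_orderOf_two hz
  have hone : ∀ x ∈ zpowers z, x = 1 ∨ x = z := fun x hx => by
    obtain ⟨i, rfl⟩ := mem_zpowers_iff.1 hx
    rcases Int.even_or_odd' i with ⟨j, rfl | rfl⟩
    · left; rw [zpow_mul, zpow_two, Invol.mul_self_of_orderOf_two hz, one_zpow]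
    · right; rw [zpow_add, zpow_mul, zpow_two, Invol.mul_self_of_orderOf_two hz, one_zpow, one_mul, zpow_one]
  have hz'o : orderOf z' = 2 := by
    obtain ⟨g, rfl⟩ := hz'
    rw [Invol.orderOf_conj_eq]; exact hz
  have hz'sq : z' ^ 2 = 1 := by rw [← hz'o]; exact pow_orderOf_eq_one z'
  have hz'z : z' ∉ zpowers z := fun h => by
    rcases hone _ h with e | e
    · exact Invol.ne_one_of_orderOf_two hz'o e
    · exact hne e
  -- involutions commuting with a four group lie in it
  have hfour : ∀ U : Subgroup G, U ≤ (S : Subgroup G) → Cfsg.IsElementaryAbelian 2 U → 4 ≤ Nat.card U →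
      ∀ x ∈ (S : Subgroup G), x ^ 2 = 1 → (∀ u ∈ U, Commute u x) → x ∈ U := by
    intro U hUS hU h4 x hx hx2 hux
    by_contra hxU
    have he := elemAb_sup hU (elemAb_zpowers hx2) fun a ha b hb => by
      obtain ⟨i, rfl⟩ := mem_zpowers_iff.1 hb
      exact (hux a ha).zpow_right i
    refine h8 ⟨_, sup_le hUS (zpowers_le.2 hx), he, ?_⟩
    have hlt : Nat.card U < Nat.card (U ⊔ zpowers x : Subgroup G) :=
      lt_of_le_of_ne (Subgroup.card_le_of_le le_sup_left) fun e =>
        hxU ((eq_of_le_of_card_ge le_sup_left e.ge).ge (mem_sup_right (mem_zpowers x)))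
    obtain ⟨k, hk⟩ := IsPGroup.iff_card.1 (Grp.elemAb_isPGroup (p := 2) he)
    have hk3 : 3 ≤ k := by
      by_contra h
      have : 2 ^ k ≤ 2 ^ 2 := Nat.pow_le_pow_right two_pos (by omega)
      omega
    rw [hk]
    exact le_trans (by norm_num) (Nat.pow_le_pow_right two_pos hk3)
  by_cases h4 : 4 ≤ Nat.card (omegaCenter (S : Subgroup G))
  · -- all involutions are central
    set Z := omegaCenter (S : Subgroup G) with hZ
    have hall : ∀ x ∈ (S : Subgroup G), x ^ 2 = 1 → x ∈ Z := fun x hx hx2 =>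
      hfour Z (fun u hu => (mem_omegaCenter.1 hu).1) (omegaCenter_elemAb _) h4 x hx hx2
        fun u hu => (mem_omegaCenter.1 hu).2.1 x hx
    obtain ⟨g, hg⟩ := hz'
    have hcent : ∀ x ∈ Z, x ∈ centralizer ((S : Subgroup G) : Set G) := fun x hx =>
      mem_centralizer_iff.2 fun s hs => ((mem_omegaCenter.1 hx).2.1 s hs).eq.symm
    obtain ⟨n, hn, hne'⟩ := S.conj_eq_normalizer_conj_of_mem_centralizer z g⁻¹ (hcent z (hall z hzS hzsq))
      (by rw [inv_inv, hg]; exact hcent z' (hall z' hz'S hz'sq))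
    rw [inv_inv, hg] at hne'
    have hzz'S : z * z' ∈ (S : Subgroup G) := mul_mem hzS hz'S
    have hw : n⁻¹ * z' * n ∈ Z := by
      have := conj_mem_omegaCenter (inv_mem hn) (hall z' hz'S hz'sq)
      rwa [inv_inv] at this
    intro x hx hxo
    have hx2 : x ^ 2 = 1 := by rw [← hxo]; exact pow_orderOf_eq_one x
    have hzz'Z : z * z' ∈ Z := hall _ hzz'S (by
      rw [(hzc z' hz'S).mul_pow, hzsq, hz'sq, one_mul])
    -- `Z` is the four group `1, z, z', z z'`
    have hZ4 : Z ≤ zpowers z ⊔ zpowers z' := fun u hu =>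
      hfour _ (pair_le hzS hz'S) (elemAb_pair hzsq hz'sq (hzc z' hz'S))
        (four_le_card_sup hzsq hz'sq (hzc z' hz'S) hz1 hz'z) u (mem_omegaCenter.1 hu).1
        (mem_omegaCenter.1 hu).2.2 fun a ha => ((mem_omegaCenter.1 hu).2.1 a (pair_le hzS hz'S ha)).symm
    have hlist : ∀ u ∈ Z, u = 1 ∨ u = z ∨ u = z' ∨ u = z * z' := by
      intro u hu
      have hu' := hZ4 hu
      rw [← SetLike.mem_coe, Subgroup.coe_mul_of_left_le_normalizer_right (zpowers z) (zpowers z')
        (fun a ha => centralizer_le_normalizer _ (mem_centralizer_iff.2 fun b hb => by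
          obtain ⟨i, rfl⟩ := mem_zpowers_iff.1 ha
          obtain ⟨j, rfl⟩ := mem_zpowers_iff.1 hb
          exact ((hzc z' hz'S).zpow_zpow i j).eq.symm))] at hu'
      obtain ⟨a, ha, b, hb, rfl⟩ := Set.mem_mul.1 hu'
      have hb' : b = 1 ∨ b = z' := by
        obtain ⟨i, rfl⟩ := mem_zpowers_iff.1 hb
        rcases Int.even_or_odd' i with ⟨j, rfl | rfl⟩
        · left; rw [zpow_mul, zpow_two, Invol.mul_self_of_orderOf_two hz'o, one_zpow]
        · right; rw [zpow_add, zpow_mul, zpow_two, Invol.mul_self_of_orderOf_two hz'o, one_zpow, one_mul, zpow_one]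
      rcases hone a ha with rfl | rfl <;> rcases hb' with rfl | rfl <;> simp
    have hx1 : x ≠ 1 := Invol.ne_one_of_orderOf_two hxo
    rcases hlist x (hall x hx hx2) with rfl | rfl | rfl | rfl
    · exact absurd rfl hx1
    · exact ⟨1, by simp⟩
    · exact ⟨g, hg⟩
    rcases hlist _ hw with e | e | e | e
    · exfalso
      refine Invol.ne_one_of_orderOf_two hz'o ((conj_eq_one_iff (a := n⁻¹)).1 ?_)
      rwa [inv_inv]
    · -- `n` interchanges `z` and `z'`: an element of even order acting on the centre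
      exfalso
      have hswap : ∀ k : ℕ, (n ^ (2 * k))⁻¹ * z * n ^ (2 * k) = z := by
        intro k
        induction k with
        | zero => simp
        | succ k ih =>
          rw [show 2 * (k + 1) = 2 * k + 1 + 1 from by ring, pow_succ, pow_succ]
          calc (n ^ (2 * k) * n * n)⁻¹ * z * (n ^ (2 * k) * n * n)
              = n⁻¹ * (n⁻¹ * ((n ^ (2 * k))⁻¹ * z * n ^ (2 * k)) * n) * n := by group
            _ = z := by rw [ih, ← hne', e]
      obtain ⟨a, b, hb, hab⟩ := Nat.exists_eq_two_pow_mul_odd (orderOf_pos n).ne'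
      have hnb : n ^ b ∈ (S : Subgroup G) := mem_sylow_of_normalizer S (fun y => by
        obtain ⟨i, hi⟩ := mem_zpowers_iff.1 y.2
        refine ⟨a, Subtype.ext ?_⟩
        rw [SubmonoidClass.coe_pow, ← hi, OneMemClass.coe_one, ← zpow_natCast, ← zpow_mul, mul_comm, zpow_mul,
          zpow_natCast, ← pow_mul, mul_comm b, ← hab, pow_orderOf_eq_one, one_zpow]) (pow_mem hn b)
      obtain ⟨c, rfl⟩ := hb
      have h1 : (n ^ (2 * c + 1))⁻¹ * z * n ^ (2 * c + 1) = z := by
        rw [mul_assoc, (hzc _ hnb).eq, inv_mul_cancel_left]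
      refine hne ?_
      rw [hne']
      refine Eq.trans ?_ h1
      rw [pow_succ]
      calc n⁻¹ * z * n = n⁻¹ * ((n ^ (2 * c))⁻¹ * z * n ^ (2 * c)) * n := by rw [hswap c]
        _ = (n ^ (2 * c) * n)⁻¹ * z * (n ^ (2 * c) * n) := by group
    · exfalso
      refine hne ?_
      have h1 : n⁻¹ * z' * n = n⁻¹ * z * n := e.trans hne'
      exact mul_left_cancel (mul_right_cancel h1)
    · exact ConjTo.trans ⟨g, hg⟩ ⟨n⁻¹, by rw [inv_inv]; exact e⟩
  -- the centre is cyclic
  push Not at h4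
  have hZ : ∀ x ∈ omegaCenter (S : Subgroup G), x ∈ zpowers z := by
    intro x hx
    by_contra hxz
    obtain ⟨hxS, -, hx2⟩ := mem_omegaCenter.1 hx
    have := four_le_card_sup hzsq hx2 (hzc x hxS) hz1 hxz
    have := Subgroup.card_le_of_le (pair_le (mem_omegaCenter.2 ⟨hzS, hzc, hzsq⟩) hx)
    omega
  -- a cyclic subgroup of index 2
  have hcyc : HasCyclicTwo (S : Subgroup G) → ∀ x ∈ (S : Subgroup G), orderOf x = 2 → ConjTo z x := by
    rintro ⟨K, hKS, hKc, hK2⟩ x hx hxo
    haveI := hKc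
    obtain ⟨⟨k, hkK⟩, hgen⟩ := IsCyclic.exists_generator (α := K)
    have hKmem : ∀ y ∈ K, y ∈ zpowers k := fun y hy => by
      obtain ⟨i, hi⟩ := mem_zpowers_iff.1 (hgen ⟨y, hy⟩)
      exact ⟨i, congrArg Subtype.val hi⟩
    have hKsq : ∀ y ∈ K, y ^ 2 = 1 → y ∈ zpowers z := by
      intro y hy hy2
      by_contra hyz
      have hKcomm : ∀ a ∈ K, ∀ b ∈ K, Commute a b := fun a ha b hb => by
        obtain ⟨i, rfl⟩ := mem_zpowers_iff.1 (hKmem a ha)
        obtain ⟨j, rfl⟩ := mem_zpowers_iff.1 (hKmem b hb)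
        exact (Commute.refl k).zpow_zpow i j
      by_cases hzK : z ∈ K
      · haveI : IsCyclic ↥(zpowers z ⊔ zpowers y : Subgroup G) :=
          isCyclic_of_injective _ (inclusion_injective (pair_le hzK hy))
        obtain ⟨g, hg⟩ := IsCyclic.exists_generator (α := ↥(zpowers z ⊔ zpowers y : Subgroup G))
        have h2 : Nat.card ↥(zpowers z ⊔ zpowers y : Subgroup G) ≤ 2 := by
          rw [← orderOf_eq_card_of_forall_mem_zpowers hg]
          exact Nat.le_of_dvd two_pos (orderOf_dvd_of_pow_eq_one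
            (Subtype.ext ((elemAb_pair hzsq hy2 (hzc y (hKS hy))).2 g g.2)))
        have := four_le_card_sup hzsq hy2 (hzc y (hKS hy)) hz1 hyz
        omega
      · refine hyz (hZ y (mem_omegaCenter.2 ⟨hKS hy, fun s hs => ?_, hy2⟩))
        by_cases hsK : s ∈ K
        · exact hKcomm y hy s hsK
        · have hsz : s * z ∈ K := (mul_mem_iff_of_two hK2 hs hzS).2 (iff_of_false hsK hzK)
          have h1 := (hKcomm y hy _ hsz).mul_right (hzc y (hKS hy)).symm.inv_right
          rwa [mul_inv_cancel_right] at h1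
    have hone' : ∀ y ∈ K, orderOf y = 2 → ConjTo z y := fun y hy hyo => by
      rcases hone y (hKsq y hy (by rw [← hyo]; exact pow_orderOf_eq_one y)) with e | e
      · exact absurd e (Invol.ne_one_of_orderOf_two hyo)
      · exact ⟨1, by rw [e]; simp⟩
    by_cases hxK : x ∈ K
    · exact hone' x hxK hxo
    rcases Cfsg.Agent.S0111.result S K hKS hK2 x hxo hx hxK with ⟨M, hM, hM2, -⟩ | ⟨g, hg⟩
    · exact absurd hM2 (hidx M hM)
    · exact (hone' _ hg (by rw [Invol.orderOf_conj_eq]; exact hxo)).trans ⟨g⁻¹, by group⟩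
  by_cases hnab : ∀ A : Subgroup (S : Subgroup G), A.Normal → IsMulCommutative A → IsCyclic A
  · rcases cyclicTwo_of_normal_abelian S hnab with h | h
    · exfalso
      haveI := h
      haveI : IsCyclic ↥(zpowers z ⊔ zpowers z' : Subgroup G) :=
        isCyclic_of_injective _ (inclusion_injective (pair_le hzS hz'S))
      obtain ⟨g, hg⟩ := IsCyclic.exists_generator (α := ↥(zpowers z ⊔ zpowers z' : Subgroup G))
      have h2 : Nat.card ↥(zpowers z ⊔ zpowers z' : Subgroup G) ≤ 2 := by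
        rw [← orderOf_eq_card_of_forall_mem_zpowers hg]
        exact Nat.le_of_dvd two_pos (orderOf_dvd_of_pow_eq_one
          (Subtype.ext ((elemAb_pair hzsq hz'sq (hzc z' hz'S)).2 g g.2)))
      have := four_le_card_sup hzsq hz'sq (hzc z' hz'S) hz1 hz'z
      omega
    · exact hcyc h
  push Not at hnab
  obtain ⟨A, hAn, hAc, hAcyc⟩ := hnab
  -- the involutions of a normal abelian subgroup
  set U := Cfsg.omegaOne 2 (A.map (S : Subgroup G).subtype) with hU
  have hAcomm : ∀ a ∈ A.map (S : Subgroup G).subtype, ∀ b ∈ A.map (S : Subgroup G).subtype, Commute a b := by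
    rintro _ ⟨a, ha, rfl⟩ _ ⟨b, hb, rfl⟩
    exact congrArg (fun x : A => ((x : (S : Subgroup G)) : G)) (hAc.is_comm.comm ⟨a, ha⟩ ⟨b, hb⟩)
  have hUmem : ∀ x, x ∈ U ↔ x ∈ A.map (S : Subgroup G).subtype ∧ x ^ 2 = 1 := fun x => mem_omegaOne_iff hAcomm
  have hUe : Cfsg.IsElementaryAbelian 2 U :=
    ⟨⟨⟨fun a b => Subtype.ext (hAcomm _ ((hUmem _).1 a.2).1 _ ((hUmem _).1 b.2).1).eq⟩⟩,
      fun x hx => ((hUmem x).1 hx).2⟩
  have hUS : U ≤ (S : Subgroup G) := fun x hx => map_subtype_le _ ((hUmem x).1 hx).1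
  have hUn : ∀ s ∈ (S : Subgroup G), ∀ x ∈ U, s * x * s⁻¹ ∈ U := by
    intro s hs x hx
    obtain ⟨⟨a, ha, rfl⟩, hx2⟩ := (hUmem x).1 hx
    exact (hUmem _).2 ⟨⟨⟨s, hs⟩ * a * ⟨s, hs⟩⁻¹, hAn.conj_mem a ha _, rfl⟩,
      by rw [conj_pow, hx2, mul_one, mul_inv_cancel]⟩
  have hU4 : 4 ≤ Nat.card U := by
    by_contra hU4
    refine hAcyc ?_
    haveI := hAc
    let _ : CommGroup A := { (inferInstance : Group A) with mul_comm := hAc.is_comm.comm }
    refine Fus.isCyclic_of_unique_order_prime (q := 2) (S.2.to_subgroup A) fun a b ha hb ha1 => ?_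
    by_contra hab
    have hb1 : b ≠ 1 := fun e => hab (e ▸ one_mem _)
    refine hU4 ?_
    have hm : ∀ c : A, c ^ 2 = 1 → ((c : (S : Subgroup G)) : G) ∈ U := fun c hc =>
      (hUmem _).2 ⟨⟨c, c.2, rfl⟩, congrArg (fun x : A => ((x : (S : Subgroup G)) : G)) hc⟩
    refine le_trans (four_le_card_sup (u := ((a : (S : Subgroup G)) : G)) (v := ((b : (S : Subgroup G)) : G))
      ((hUmem _).1 (hm a ha)).2 ((hUmem _).1 (hm b hb)).2 (hAcomm _ ((hUmem _).1 (hm a ha)).1 _
        ((hUmem _).1 (hm b hb)).1) (fun e => ha1 (Subtype.ext (Subtype.ext e))) ?_)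
      (Subgroup.card_le_of_le (pair_le (hm a ha) (hm b hb)))
    intro h
    obtain ⟨i, hi⟩ := mem_zpowers_iff.1 h
    have hi' : a ^ i = b := Subtype.ext (Subtype.ext (by simpa using hi))
    rcases Int.even_or_odd' i with ⟨j, rfl | rfl⟩
    · refine hb1 ?_
      rw [← hi', zpow_mul, zpow_two, ← pow_two, ha, one_zpow]
    · refine hab ?_
      rw [← hi']
      exact zpow_mem (mem_zpowers a) _
  have hzU : z ∈ U := hfour U hUS hUe hU4 z hzS hzsq fun u hu => (hzc u (hUS hu)).symm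
  obtain ⟨t₀, ht₀, ht₀z⟩ := exists_notMem hU4 hzsq
  have ht₀sq := hUe.2 t₀ ht₀
  have hUle : U ≤ zpowers z ⊔ zpowers t₀ := fun u hu =>
    hfour _ (pair_le hzS (hUS ht₀)) (elemAb_pair hzsq ht₀sq (hzc _ (hUS ht₀)))
      (four_le_card_sup hzsq ht₀sq (hzc _ (hUS ht₀)) hz1 ht₀z) u (hUS hu) (hUe.2 u hu)
      fun a ha => Grp.elemAb_comm hUe a (pair_le hzU ht₀ ha) u hu
  have ht₀o : orderOf t₀ = 2 := orderOf_of_sq ht₀sq fun e => ht₀z (e ▸ one_mem _)
  have hcases : ∀ u ∈ U, u ∈ zpowers z ∨ u * t₀ ∈ zpowers z := by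
    intro u hu
    have hu' := hUle hu
    rw [← SetLike.mem_coe, Subgroup.coe_mul_of_left_le_normalizer_right (zpowers z) (zpowers t₀)
      (fun a ha => centralizer_le_normalizer _ (mem_centralizer_iff.2 fun b hb => by
        obtain ⟨i, rfl⟩ := mem_zpowers_iff.1 ha
        obtain ⟨j, rfl⟩ := mem_zpowers_iff.1 hb
        exact ((hzc t₀ (hUS ht₀)).zpow_zpow i j).eq.symm))] at hu'
    obtain ⟨a, ha, b, hb, rfl⟩ := Set.mem_mul.1 hu'
    obtain ⟨i, rfl⟩ := mem_zpowers_iff.1 hb
    rcases Int.even_or_odd' i with ⟨j, rfl | rfl⟩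
    · left; rwa [zpow_mul, zpow_two, Invol.mul_self_of_orderOf_two ht₀o, one_zpow, mul_one]
    · right
      rwa [zpow_add, zpow_mul, zpow_two, Invol.mul_self_of_orderOf_two ht₀o, one_zpow, one_mul, zpow_one,
        mul_assoc, Invol.mul_self_of_orderOf_two ht₀o, mul_one]
  -- an element moving `t₀`
  obtain ⟨s, hs, hst⟩ : ∃ s ∈ (S : Subgroup G), ¬ Commute s t₀ := by
    by_contra h
    push Not at h
    exact ht₀z (hZ _ (mem_omegaCenter.2 ⟨hUS ht₀, fun s hs => (h s hs).symm, ht₀sq⟩))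
  have hmove : ∀ r ∈ (S : Subgroup G), ¬ Commute r t₀ → r * t₀ * r⁻¹ = z * t₀ := by
    intro r hr hrt
    rcases hcases _ (hUn r hr t₀ ht₀) with h | h
    · exfalso
      rcases hone _ h with e | e
      · exact ht₀z ((conj_eq_one_iff.1 e) ▸ one_mem _)
      · refine ht₀z ?_
        rw [show t₀ = r⁻¹ * z * r by rw [← e]; group, mul_assoc, (hzc r hr).eq, inv_mul_cancel_left]
        exact mem_zpowers z
    · rcases hone _ h with e | e
      · refine absurd ?_ hrt
        exact mul_inv_eq_iff_eq_mul.1 (mul_right_cancel (e.trans (Invol.mul_self_of_orderOf_two ht₀o).symm))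
      · rw [← e, mul_assoc (r * t₀ * r⁻¹), Invol.mul_self_of_orderOf_two ht₀o, mul_one]
  set C := (S : Subgroup G) ⊓ centralizer ({t₀} : Set G) with hC
  have hC2 : C.relIndex (S : Subgroup G) = 2 := by
    rw [relIndex, index_eq_two_iff]
    refine ⟨⟨s, hs⟩, fun b => ?_⟩
    have hiff : ∀ r : (S : Subgroup G), r ∈ C.subgroupOf (S : Subgroup G) ↔ Commute (r : G) t₀ := fun r =>
      ⟨fun h => mem_centralizer_singleton_iff.1 (mem_subgroupOf.1 h).2,
        fun h => mem_subgroupOf.2 ⟨r.2, mem_centralizer_singleton_iff.2 h.eq⟩⟩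
    rw [hiff, hiff]
    by_cases hb : Commute (b : G) t₀
    · refine Or.inr ⟨hb, fun h => hst ?_⟩
      have := hb.inv_left.mul_left h
      simpa using this
    · refine Or.inl ⟨?_, hb⟩
      refine mul_inv_eq_iff_eq_mul.1 ?_
      have hbz : (b : G) * z * (b : G)⁻¹ = z := by rw [← (hzc _ b.2).eq, mul_inv_cancel_right]
      show (b : G) * s * t₀ * ((b : G) * s)⁻¹ = t₀
      calc (b : G) * s * t₀ * ((b : G) * s)⁻¹ = (b : G) * (s * t₀ * s⁻¹) * (b : G)⁻¹ := by group
        _ = ((b : G) * z * (b : G)⁻¹) * ((b : G) * t₀ * (b : G)⁻¹) := by rw [hmove s hs hst]; group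
        _ = t₀ := by
          rw [hbz, hmove _ b.2 hb, ← mul_assoc, Invol.mul_self_of_orderOf_two hz, one_mul]
  have hCU : ∀ w ∈ C, w ^ 2 = 1 → w ∈ U := fun w hw hw2 => hfour U hUS hUe hU4 w hw.1 hw2 fun u hu => by
    have hwt : Commute t₀ w := (mem_centralizer_singleton_iff.1 hw.2).symm
    exact pair_commute (hzc w hw.1) hwt u (hUle hu)
  have hzt : ConjTo t₀ (z * t₀) := ⟨s, hmove s hs hst⟩
  -- it is enough that `t₀` is conjugate to `z`
  suffices ht : ConjTo z t₀ by
    have hinC : ∀ w ∈ C, orderOf w = 2 → ConjTo z w := by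
      intro w hw hwo
      have hw2 : w ^ 2 = 1 := by rw [← hwo]; exact pow_orderOf_eq_one w
      rcases hcases w (hCU w hw hw2) with h | h
      · rcases hone w h with e | e
        · exact absurd e (Invol.ne_one_of_orderOf_two hwo)
        · exact ⟨1, by rw [e]; simp⟩
      · rcases hone _ h with e | e
        · rw [mul_right_cancel (e.trans (Invol.mul_self_of_orderOf_two ht₀o).symm)]; exact ht
        · have : w = z * t₀ := by rw [← e, mul_assoc, Invol.mul_self_of_orderOf_two ht₀o, mul_one]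
          rw [this]; exact ht.trans hzt
    intro x hx hxo
    by_cases hxC : x ∈ C
    · exact hinC x hxC hxo
    rcases Cfsg.Agent.S0111.result S C inf_le_left hC2 x hxo hx hxC with ⟨M, hM, hM2, -⟩ | ⟨g, hg⟩
    · exact absurd hM2 (hidx M hM)
    · exact (hinC _ hg (by rw [Invol.orderOf_conj_eq]; exact hxo)).trans ⟨g⁻¹, by group⟩
  by_cases hz'C : z' ∈ C
  · rcases hcases z' (hCU z' hz'C hz'sq) with h | h
    · exact absurd h hz'z
    · rcases hone _ h with e | e
      · rw [← mul_right_cancel (e.trans (Invol.mul_self_of_orderOf_two ht₀o).symm)]; exact hz'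
      · have he : z' = z * t₀ := by rw [← e, mul_assoc, Invol.mul_self_of_orderOf_two ht₀o, mul_one]
        obtain ⟨r, hr⟩ := hzt
        exact hz'.trans ⟨r⁻¹, by rw [he, ← hr]; group⟩
  -- `z'` outside `C`
  have hzC : z ∈ C := ⟨hzS, mem_centralizer_singleton_iff.2 (hzc t₀ (hUS ht₀)).eq⟩
  have hD : ∀ w ∈ (S : Subgroup G), w ∈ C → w ^ 2 = 1 → Commute w z' → w ∈ zpowers z := by
    intro w _ hwC hw2 hwz'
    rcases hcases w (hCU w hwC hw2) with h | h
    · exact h
    · exfalso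
      have h1 : Commute (w * t₀) z' := by
        obtain ⟨i, hi⟩ := mem_zpowers_iff.1 h
        rw [← hi]; exact (hzc z' hz'S).zpow_left i
      have h2 := hwz'.inv_left.mul_left h1
      rw [inv_mul_cancel_left] at h2
      exact hz'C ⟨hz'S, mem_centralizer_singleton_iff.2 h2.eq.symm⟩
  rcases cyclicTwo_or_max hC2 hz hzC hzS hzc hCz hz'S hz'o hz'C hD with h | hmax
  · exact (hcyc h) t₀ (hUS ht₀) ht₀o
  exfalso
  obtain ⟨g, hg⟩ := hz'
  set K := centralizer ({z'} : Set G) with hK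
  set Q := (S : Subgroup G) ⊓ K with hQ
  obtain ⟨P, hP⟩ := ((S.2.to_le inf_le_left : IsPGroup 2 Q).comap_of_injective K.subtype
    K.subtype_injective).exists_le_sylow
  have hPQ : ∀ x : K, x ∈ (P : Subgroup K) → (x : G) ∈ Q := fun x hx =>
    hmax ((P : Subgroup K).map K.subtype) (P.2.map _)
      (fun q hq => ⟨⟨q, hq.2⟩, hP hq, rfl⟩) (map_subtype_le _) ⟨x, hx, rfl⟩
  set T := (S : Subgroup G).map (MulAut.conj g).toMonoidHom with hT
  have hTK : T ≤ K := by
    rintro _ ⟨x, hx, rfl⟩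
    have := (hzc x hx).symm.map (MulAut.conj g).toMonoidHom
    exact mem_centralizer_singleton_iff.2 (by simpa [hg] using this.eq)
  obtain ⟨m, -, hm⟩ := exists_conj_le P le_top le_top
    ((S.2.map _ : IsPGroup 2 T).comap_of_injective K.subtype K.subtype_injective)
  have hle : (T.map (MulAut.conj (m : G)).toMonoidHom) ≤ Q := by
    rintro _ ⟨a, ha, rfl⟩
    exact hPQ _ (hm ⟨a, hTK ha⟩ ha)
  have hQS : (S : Subgroup G) ≤ Q := by
    refine (eq_of_le_of_card_ge (inf_le_left : Q ≤ (S : Subgroup G)) ?_).ge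
    refine le_trans (le_of_eq ?_) (Subgroup.card_le_of_le hle)
    rw [Subgroup.card_map_of_injective (MulAut.conj (m : G)).injective, hT,
      Subgroup.card_map_of_injective (MulAut.conj g).injective]
  exact hz'z (hZ z' (mem_omegaCenter.2 ⟨hz'S,
    fun x hx => (mem_centralizer_singleton_iff.1 (hQS hx).2 : Commute x z').symm, hz'sq⟩))

/-- A fused central involution in 2-rank 2. -/
theorem dichotomy_of_rank_two (hcon : LocalConstrained G) (hO : Cfsg.pPrimeCore 2 G = ⊥) (S : Sylow 2 G)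
    {z z' : G} (hz : orderOf z = 2) (hzS : z ∈ (S : Subgroup G)) (hzc : ∀ s ∈ (S : Subgroup G), Commute z s)
    (hCz : centralizer ({z} : Set G) ≤ normalizer ((S : Subgroup G) : Set G))
    (h8 : ¬ HasEight (S : Subgroup G)) (hidx : NoIndexTwo G)
    (hz'S : z' ∈ (S : Subgroup G)) (hz' : ConjTo z z') (hne : z' ≠ z) : Dichotomy S := by
  haveI : Fact (Nat.Prime 2) := ⟨Nat.prime_two⟩
  set L := core z with hL
  have hLn : ∀ c, Commute c z → ∀ y ∈ L, c * y * c⁻¹ ∈ L := fun c hc y hy =>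
    Grp.centralizerPPrimeCore_conj hc.eq hy
  have hCN : centralizer ({z} : Set G) ≤ normalizer (L : Set G) := by
    intro c hc
    have hc' : Commute c z := mem_centralizer_singleton_iff.1 hc
    refine mem_normalizer_iff.2 fun y => ⟨hLn c hc' y, fun hy => ?_⟩
    have := hLn c⁻¹ hc'.inv_left _ hy
    simpa [mul_assoc] using this
  have hLS : ∀ y ∈ L, ∀ s ∈ (S : Subgroup G), Commute y s := by
    intro y hy s hs
    refine Grp.CyclicAbelian.commute_of_coprime_normalize (A := L) (B := (S : Subgroup G)) ?_ hy hs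
      (hCz (core_le z hy)) (hCN (mem_centralizer_singleton_iff.2 (hzc s hs).eq.symm))
    obtain ⟨n, hn⟩ := IsPGroup.iff_card.1 S.2
    rw [hn]
    exact (core_coprime z).pow_right n
  have hconj := all_conj S hz hzS hzc hCz h8 hidx hz'S hz' hne
  have hcore : ∀ x ∈ (S : Subgroup G), orderOf x = 2 → core x = L := by
    intro x hx hxo
    obtain ⟨g, hg⟩ := hconj x hx hxo
    refine (eq_of_le_of_card_ge ?_ (le_of_eq ?_)).symm
    · intro y hy
      exact inf_centralizer_le hcon hxo (k := 1) (by rw [pow_one, ← hz]; exact pow_orderOf_eq_one z)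
        (hzc x hx) ⟨hy, mem_centralizer_singleton_iff.2 (hLS y hy x hx).eq⟩
    · rw [← hg, ← map_core, Subgroup.card_map_of_injective (MulAut.conj g).injective]
  have hz'sq : z' ^ 2 = 1 := by
    obtain ⟨g, rfl⟩ := hz'
    rw [conj_pow, ← hz, pow_orderOf_eq_one, mul_one, mul_inv_cancel]
  have hzsq : z ^ 2 = 1 := by rw [← hz]; exact pow_orderOf_eq_one z
  have hU : Uniform S L :=
    { odd := Nat.coprime_two_right.1 (core_coprime z)
      four := fun B hBS hB hB4 => by
        refine le_antisymm (iSup_le fun b => (hcore b (hBS b.2.1)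
          (orderOf_of_sq (hB.2 b b.2.1) b.2.2)).le) ?_
        obtain ⟨b, hb, hb1⟩ := exists_notMem hB4 (one_pow 2 : (1 : G) ^ 2 = 1)
        have hb1' : b ≠ 1 := fun e => hb1 (by rw [e]; exact one_mem _)
        rw [← hcore b (hBS hb) (orderOf_of_sq (hB.2 b hb) hb1')]
        exact le_coreOver hb hb1'
      exists_four := ⟨_, pair_le hzS hz'S, elemAb_pair hzsq hz'sq (hzc z' hz'S),
        four_le_card_sup hzsq hz'sq (hzc z' hz'S) (Invol.ne_one_of_orderOf_two hz) fun h => by
          obtain ⟨g, hg⟩ := hz'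
          obtain ⟨i, hi⟩ := mem_zpowers_iff.1 h
          rcases Int.even_or_odd' i with ⟨j, rfl | rfl⟩
          · rw [zpow_mul, zpow_two, Invol.mul_self_of_orderOf_two hz, one_zpow] at hi
            rw [← hg] at hi
            exact Invol.ne_one_of_orderOf_two hz (conj_eq_one_iff.1 hi.symm)
          · rw [zpow_add, zpow_mul, zpow_two, Invol.mul_self_of_orderOf_two hz, one_zpow, one_mul, zpow_one] at hi
            exact hne hi.symm⟩ }
  exact hU.dichotomy hcon hO hzS hz hzc hCN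

end Cfsg.Agent.Grp.ZN
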